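import Cfsg.Agent.SmallDegreeGraph.Engine
import Cfsg.Agent.Char.DegreeRatio
import Cfsg.Agent.Char.Inflation
import Cfsg.Agent.Char.Orthogonality
import Cfsg.Agent.SmallSimple.ThirtySixForty.Main
import Cfsg.Prelude.Def_DegreeGraph

/-!
# Degree primes, and groups with few possible composition factors
-/

set_option autoImplicit false
set_option linter.style.haveILetI false

namespace CfsgLib.SmallDegreeGraph

open CfsgLib.Char

universe u v

section degrees

variable {G : Type u} [Group G] [Finite G]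

/-- The degree of a character of known value at one. -/
theorem charDegree_eq {χ : G → ℂ} {d : ℕ} (hd : χ 1 = d) : Cfsg.charDegree χ = d := by
  rw [Cfsg.charDegree, hd, Complex.natCast_re, Nat.floor_natCast]

theorem mem_charDegrees {χ : G → ℂ} (hχ : Cfsg.IsIrrCharacter G χ) {d : ℕ} (hd : χ 1 = d) :
    d ∈ Cfsg.charDegrees G := ⟨⟨χ, hχ⟩, charDegree_eq hd⟩

theorem exists_of_mem_charDegrees {d : ℕ} (h : d ∈ Cfsg.charDegrees G) :
    ∃ χ : G → ℂ, Cfsg.IsIrrCharacter G χ ∧ χ 1 = (d : ℂ) := by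
  obtain ⟨⟨χ, hχ⟩, rfl⟩ := h
  obtain ⟨n, -, hn⟩ := IsIrrCharacter.exists_degree hχ
  exact ⟨χ, hχ, by rw [charDegree_eq hn, hn]⟩

theorem charDegrees_subset_of_surjective {H : Type v} [Group H] [Finite H] (f : H →* G) (hf : Function.Surjective f) :
    Cfsg.charDegrees G ⊆ Cfsg.charDegrees H := fun d hd => by
  obtain ⟨χ, hχ, h1⟩ := exists_of_mem_charDegrees hd
  exact mem_charDegrees (IsIrrCharacter.comp_surjective hχ f hf) (by rw [map_one, h1])

theorem charDegrees_congr {H : Type v} [Group H] [Finite H] (e : G ≃* H) : Cfsg.charDegrees G = Cfsg.charDegrees H :=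
  Set.Subset.antisymm (charDegrees_subset_of_surjective e.symm.toMonoidHom e.symm.surjective)
    (charDegrees_subset_of_surjective e.toMonoidHom e.surjective)

theorem degreePrimes_congr {H : Type v} [Group H] [Finite H] (e : G ≃* H) : Cfsg.degreePrimes G = Cfsg.degreePrimes H := by
  ext p
  simp only [Cfsg.degreePrimes, Set.mem_ofPred_eq, charDegrees_congr e]

theorem degreeGraph_congr {H : Type v} [Group H] [Finite H] (e : G ≃* H) : Cfsg.degreeGraph G = Cfsg.degreeGraph H := by
  ext p q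
  simp only [Cfsg.degreeGraph, charDegrees_congr e]

/-- Degrees divide the index of a normal abelian subgroup. -/
theorem not_mem_degreePrimes_of_abelian {p : ℕ} (A : Subgroup G) [A.Normal]
    (hA : ∀ a ∈ A, ∀ b ∈ A, a * b = b * a) (hp : ¬ p ∣ A.index) : p ∉ Cfsg.degreePrimes G := by
  rintro ⟨-, d, hd, hpd⟩
  obtain ⟨χ, ⟨n, ρ, hρ, rfl⟩, h1⟩ := exists_of_mem_charDegrees hd
  rw [ρ.char_one] at h1
  exact hp (hpd.trans (by
    have h2 : Module.finrank ℂ (Fin n → ℂ) = d := by exact_mod_cast h1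
    exact h2 ▸ finrank_dvd_index_of_abelian ρ A hA))

/-- A normal Sylow subgroup of prime order excludes the prime. -/
theorem not_mem_degreePrimes_of_pn {p : ℕ} [hp : Fact p.Prime] (hsq : ¬ p ^ 2 ∣ Nat.card G) (h : PN p G) :
    p ∉ Cfsg.degreePrimes G := by
  intro hmem
  obtain ⟨-, d, hd, hpd⟩ := hmem
  obtain ⟨χ, hχ, h1⟩ := exists_of_mem_charDegrees hd
  have hpG : p ∣ Nat.card G := hpd.trans (IsIrrCharacter.degree_dvd_card hχ h1)
  obtain ⟨P⟩ : Nonempty (Sylow p G) := inferInstance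
  haveI := h P
  haveI : IsCyclic (P : Subgroup G) := isCyclic_of_prime_card (card_sylow_eq_prime hpG hsq P)
  refine not_mem_degreePrimes_of_abelian (P : Subgroup G) (fun a ha b hb => ?_) P.not_dvd_index
    ⟨hp.out, d, hd, hpd⟩
  exact congrArg Subtype.val ((IsCyclic.commGroup (α := (P : Subgroup G))).mul_comm ⟨a, ha⟩ ⟨b, hb⟩)

/-- A normal abelian subgroup of order the full power of `q` excludes `q`. -/
theorem not_mem_degreePrimes_of_card {q a : ℕ} (hq : ¬ q ^ (a + 1) ∣ Nat.card G) (T : Subgroup G) (hn : T.Normal)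
    (hc : Nat.card T = q ^ a) (hcomm : ∀ x ∈ T, ∀ y ∈ T, x * y = y * x) : q ∉ Cfsg.degreePrimes G := by
  haveI := hn
  refine not_mem_degreePrimes_of_abelian T hcomm fun hd => hq ?_
  rw [← T.card_mul_index, hc, pow_succ]
  exact Nat.mul_dvd_mul_left _ hd

/-- Some character lies over each character of a normal subgroup. -/
theorem exists_dvd_degree {N : Subgroup G} [N.Normal] {d : ℕ} (hd : d ∈ Cfsg.charDegrees N) :
    ∃ e ∈ Cfsg.charDegrees G, d ∣ e := by
  classical
  haveI := Fintype.ofFinite G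
  haveI := Fintype.ofFinite N
  obtain ⟨θ, hθ, hθ1⟩ := exists_of_mem_charDegrees hd
  have hind := IsCharacter.indFun (G := G) (IsIrrCharacter.isCharacter hθ)
  obtain ⟨χ, hχ, hc⟩ := IsCharacter.exists_constituent hind fun h0 => by
    have h1 := congrFun h0 1
    rw [indFun_one, Pi.zero_apply, mul_eq_zero] at h1
    rcases h1 with h1 | h1
    · exact N.index_ne_zero_of_finite (by exact_mod_cast h1)
    · exact IsIrrCharacter.apply_one_ne_zero hθ h1
  obtain ⟨k, -, hk⟩ := exists_degree_ratio hχ hθ (fun h0 => hc (by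
    rw [classInner_indFun θ (IsIrrCharacter.isClassFunction hχ), ← classInner_conj, h0, map_zero]))
  exact ⟨k * d, mem_charDegrees hχ (by rw [hk, hθ1, Nat.cast_mul]), dvd_mul_left d k⟩

end degrees

/-- The orders of the simple groups below 6000. -/
def simpleOrders : List ℕ := [60, 168, 360, 504, 660, 1092, 2448, 2520, 3420, 4080, 5616]

/-- A group without smaller possible composition factors is solvable or simple. -/
theorem simple_of_not_solvable : ∀ (m : ℕ) (G : Type u) [Group G] [Finite G], Nat.card G = m → m < 6000 →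
    (∀ k ∈ simpleOrders, k ∣ m → k = m) → ¬ Group.IsSolvable G →
    IsSimpleGroup G ∧ ¬ IsMulCommutative G ∧ m ∈ simpleOrders := by
  intro m
  induction m using Nat.strong_induction_on with | _ m ih => ?_
  intro G _ _ hm hlt hk hns
  rcases subsingleton_or_nontrivial G with h | h
  · exact (hns inferInstance).elim
  by_cases hs : IsSimpleGroup G
  · haveI := hs
    have hna : ¬ IsMulCommutative G := fun hc => hns (by
      letI : CommGroup G := { ‹Group G› with mul_comm := hc.is_comm.comm }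
      infer_instance)
    exact ⟨hs, hna, hm ▸ CfsgLib.ThirtySixForty.card_mem_of_lt hna (hm ▸ hlt)⟩
  exfalso
  obtain ⟨N, hN, hN1, hN2⟩ : ∃ N : Subgroup G, N.Normal ∧ N ≠ ⊥ ∧ N ≠ ⊤ := by
    by_contra! h'
    exact hs ⟨fun N hN => or_iff_not_imp_left.2 (h' N hN)⟩
  haveI := hN
  have key : ∀ (H : Type u) [Group H] [Finite H], Nat.card H ∣ m → Nat.card H < m → Group.IsSolvable H := by
    intro H _ _ hd hlt'
    by_contra hH
    obtain ⟨-, -, hmem⟩ := ih _ hlt' H rfl (hlt'.trans hlt)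
      (fun k hk' hkd => by
        have := hk k hk' (hkd.trans hd)
        have := Nat.le_of_dvd Nat.card_pos hkd
        omega) hH
    exact absurd (hk _ hmem hd) hlt'.ne
  haveI := key N (hm ▸ N.card_subgroup_dvd_card) (hm ▸ lt_of_le_of_ne N.card_le_card_group
    fun e => hN2 (N.eq_top_of_card_eq e))
  haveI := key (G ⧸ N) (hm ▸ N.card_quotient_dvd_card) (by
    rw [← hm, N.card_eq_card_quotient_mul_card_subgroup]
    exact lt_mul_of_one_lt_right Nat.card_pos (N.one_lt_card_iff_ne_bot.2 hN1))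
  exact hns (Group.isSolvable_of_ker_le_range N.subtype (QuotientGroup.mk' N)
    (by rw [QuotientGroup.ker_mk', Subgroup.range_subtype]))

/-- Divisors congruent to one modulo `p` have two prime divisors. -/
def freeB (p n : ℕ) (allowed : List ℕ) : Bool :=
  (List.range (n + 1)).all fun d => !(n % d == 0 && d % p == 1 && d != 1) || allowed.contains d ||
    [2, 3, 5, 7, 11, 13, 17, 19].any fun a => [2, 3, 5, 7, 11, 13, 17, 19].any fun b =>
      decide (a < b) && d % a == 0 && d % b == 0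

theorem mem_allowed_of_freeB {p n : ℕ} (hn : n ≠ 0) {allowed : List ℕ} (h : freeB p n allowed = true) {q j : ℕ}
    (hq : q.Prime) (hj : j ≠ 0) (hd : q ^ j ∣ n) (h1 : q ^ j % p = 1) : q ^ j ∈ allowed := by
  simp only [freeB, List.all_eq_true, List.mem_range, Bool.or_eq_true, List.any_eq_true, Bool.and_eq_true,
    decide_eq_true_eq, beq_iff_eq, Bool.not_eq_true', List.contains_eq_mem] at h
  rcases h (q ^ j) (Nat.lt_succ_of_le (Nat.le_of_dvd (Nat.pos_of_ne_zero hn) hd)) with (h' | h') | h'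
  · exfalso
    have hne : q ^ j ≠ 1 := (Nat.one_lt_pow hj hq.one_lt).ne'
    have hmod : n % q ^ j = 0 := Nat.mod_eq_zero_of_dvd hd
    simp [hmod, h1] at h'
    rcases h' with e | e
    exacts [hq.one_lt.ne' e, hj e]
  · exact h'
  · exfalso
    obtain ⟨a, ha, b, hb, ⟨hab, h2⟩, h3⟩ := h'
    have hprime : ∀ c ∈ [2, 3, 5, 7, 11, 13, 17, 19], Nat.Prime c := by decide
    have e1 := (Nat.prime_dvd_prime_iff_eq (hprime a ha) hq).1 ((hprime a ha).dvd_of_dvd_pow (Nat.dvd_of_mod_eq_zero h2))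
    have e2 := (Nat.prime_dvd_prime_iff_eq (hprime b hb) hq).1 ((hprime b hb).dvd_of_dvd_pow (Nat.dvd_of_mod_eq_zero h3))
    omega

theorem free_of_freeB {p n : ℕ} (hn : n ≠ 0) (h : freeB p n [] = true) : Free p n := fun q j hq hj hd h1 => by
  simpa using mem_allowed_of_freeB hn h hq hj hd h1

/-- Without exceptional prime powers the Sylow subgroup is normal unless the group is simple. -/
theorem pn_or_simple {p n : ℕ} [hp : Fact p.Prime] (hn : n < 6000) (hn0 : n ≠ 0) (hsq : ¬ p ^ 2 ∣ n)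
    (hfree : Free p n) (hS : ∀ k ∈ simpleOrders, k ∣ n → p ∣ k → k = n) :
    ∀ (m : ℕ) (G : Type u) [Group G] [Finite G], Nat.card G = m → m ∣ n →
      PN p G ∨ (m = n ∧ IsSimpleGroup G) := by
  intro m
  induction m using Nat.strong_induction_on with | _ m ih => ?_
  intro G _ _ hm hd
  by_cases hpG : p ∣ Nat.card G
  swap
  · exact Or.inl (pn_of_not_dvd hpG)
  haveI : Nontrivial G := Finite.one_lt_card_iff_nontrivial.1
    (lt_of_lt_of_le hp.out.one_lt (Nat.le_of_dvd Nat.card_pos hpG))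
  by_cases hs : IsSimpleGroup G
  · haveI := hs
    by_cases hc : IsMulCommutative G
    · exact Or.inl fun P => ⟨fun x hx g => by rwa [hc.is_comm.comm g x, mul_inv_cancel_right]⟩
    · refine Or.inr ⟨?_, hs⟩
      have hle := Nat.le_of_dvd (Nat.pos_of_ne_zero hn0) hd
      exact hS m (hm ▸ CfsgLib.ThirtySixForty.card_mem_of_lt hc (by omega)) hd (hm ▸ hpG)
  refine Or.inl ?_
  obtain ⟨N, hN, hN1, hN2⟩ : ∃ N : Subgroup G, N.Normal ∧ N ≠ ⊥ ∧ N ≠ ⊤ := by
    by_contra! h'
    exact hs ⟨fun N hN => or_iff_not_imp_left.2 (h' N hN)⟩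
  haveI := hN
  have hsqG : ¬ p ^ 2 ∣ Nat.card G := fun h => hsq (h.trans (hm ▸ hd))
  have hlt : Nat.card N < m := hm ▸ lt_of_le_of_ne N.card_le_card_group fun e => hN2 (N.eq_top_of_card_eq e)
  have hle : m ≤ n := Nat.le_of_dvd (Nat.pos_of_ne_zero hn0) hd
  by_cases hpN : p ∣ Nat.card N
  · rcases ih _ hlt N rfl ((hm ▸ N.card_subgroup_dvd_card).trans hd) with h | ⟨h, -⟩
    · exact pn_of_normal hsqG hpN h
    · omega
  have hlt' : Nat.card (G ⧸ N) < m := by
    rw [← hm, N.card_eq_card_quotient_mul_card_subgroup]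
    exact lt_mul_of_one_lt_right Nat.card_pos (N.one_lt_card_iff_ne_bot.2 hN1)
  rcases ih _ hlt' (G ⧸ N) rfl ((hm ▸ N.card_quotient_dvd_card).trans hd) with h | ⟨h, -⟩
  · exact pn_of_quotient hsqG hpN (hfree.of_dvd ((hm ▸ N.card_subgroup_dvd_card).trans hd)) h
  · omega

/-- The step for a group which is not simple. -/
theorem not_mem_of_not_simple {p n : ℕ} [Fact p.Prime] (hn : n < 6000) (hn0 : n ≠ 0) (hsq : ¬ p ^ 2 ∣ n)
    (hfree : freeB p n [] = true) (hS : ∀ k ∈ simpleOrders, k ∣ n → p ∣ k → k = n)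
    (G : Type u) [Group G] [Finite G] (hG : Nat.card G = n) (hns : ¬ IsSimpleGroup G) :
    p ∉ Cfsg.degreePrimes G := by
  rcases pn_or_simple hn hn0 hsq (free_of_freeB hn0 hfree) hS n G hG dvd_rfl with h | ⟨-, h⟩
  · exact not_mem_degreePrimes_of_pn (hG ▸ hsq) h
  · exact absurd h hns

/-- Solvable groups miss one of two primes. -/
theorem not_mem_of_solvable {p q a n : ℕ} [hp : Fact p.Prime] (hq : q.Prime) (hpq : p ≠ q) (ha : a ≠ 0)
    (hn0 : n ≠ 0) (hsq : ¬ p ^ 2 ∣ n) (hqa : ¬ q ^ (a + 1) ∣ n) (hfree : freeB p n [q ^ a] = true)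
    (G : Type u) [Group G] [Finite G] (hG : Nat.card G = n) (hs : Group.IsSolvable G) :
    p ∉ Cfsg.degreePrimes G ∨ q ∉ Cfsg.degreePrimes G := by
  have hexc : ∀ r j : ℕ, r.Prime → j ≠ 0 → r ^ j ∣ n → r ^ j % p = 1 → r = q ∧ j = a := by
    intro r j hr hj hd h1
    have := mem_allowed_of_freeB hn0 hfree hr hj hd h1
    rw [List.mem_singleton] at this
    have hrq : r = q := (Nat.prime_dvd_prime_iff_eq hr hq).1
      (hr.dvd_of_dvd_pow ((dvd_pow_self r hj).trans this.dvd))
    subst hrq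
    exact ⟨rfl, Nat.pow_right_injective hr.two_le this⟩
  rcases solvable_dichotomy hq hpq ha hn0 hsq hqa hexc n G hG dvd_rfl hs with
    h | ⟨T, hT, hTc, hTcomm⟩
  · exact Or.inl (not_mem_degreePrimes_of_pn (hG ▸ hsq) h)
  · exact Or.inr (not_mem_degreePrimes_of_card (hG ▸ hqa) T hT hTc hTcomm)

end CfsgLib.SmallDegreeGraph
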