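import Cfsg.Agent.Solvable.CoprimeAct
import Cfsg.Agent.Solvable.Basics

/-!
# Normal Sylow subgroups of prime order

A Sylow subgroup `P` of prime order `p` centralises a normal `p'`-subgroup `N` unless some prime
power dividing `|N|` is congruent to one modulo `p`.  Hence either `P` is normal, or some factor
group forces a normal abelian Sylow subgroup for the exceptional prime.
-/

set_option autoImplicit false
set_option linter.style.haveILetI false

namespace CfsgLib.SmallDegreeGraph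

open Subgroup MulAction

universe u

/-- No prime power other than one dividing `m` is congruent to one modulo `p`. -/
def Free (p m : ℕ) : Prop := ∀ q j : ℕ, q.Prime → j ≠ 0 → q ^ j ∣ m → q ^ j % p ≠ 1

theorem Free.of_dvd {p m m' : ℕ} (h : Free p m) (hd : m' ∣ m) : Free p m' :=
  fun q j hq hj hdvd => h q j hq hj (hdvd.trans hd)

/-- The Sylow `p`-subgroups are normal. -/
def PN (p : ℕ) (G : Type*) [Group G] : Prop := ∀ P : Sylow p G, (P : Subgroup G).Normal

variable {G : Type u} [Group G] [Finite G] {p : ℕ} [hp : Fact p.Prime]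

omit hp in
/-- Powers congruent modulo `p` differ by a power congruent to one. -/
theorem not_modEq_pow {q a c : ℕ} (hq : q.Prime) [Fact p.Prime] (hpq : p ≠ q) (hca : c < a)
    (h : q ^ c % p = q ^ a % p) : q ^ (a - c) % p = 1 := by
  have hp : p.Prime := Fact.out
  have hcop : Nat.gcd p (q ^ c) = 1 :=
    Nat.Coprime.pow_right c ((Nat.coprime_primes hp hq).2 hpq)
  have h' : q ^ c * 1 ≡ q ^ c * q ^ (a - c) [MOD p] := by
    rw [mul_one, ← pow_add, Nat.add_sub_cancel' hca.le]
    exact h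
  have h1 : 1 % p = q ^ (a - c) % p := Nat.ModEq.cancel_left_of_coprime hcop h'
  rw [Nat.mod_eq_of_lt hp.one_lt] at h1
  exact h1.symm

/-- The points of an invariant `q`-subgroup fixed by a `p`-group. -/
theorem centralizes_or_power {q : ℕ} (hq : q.Prime) (hpq : p ≠ q) {A T : Subgroup G} (hA : IsPGroup p A)
    (hAT : A ≤ normalizer (T : Set G)) {a : ℕ} (hT : Nat.card T = q ^ a) :
    T ≤ centralizer (A : Set G) ∨
      ∃ c, c < a ∧ Nat.card (T ⊓ centralizer (A : Set G) : Subgroup G) = q ^ c ∧ q ^ (a - c) % p = 1 := by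
  classical
  let act : MulAction A T :=
    { smul := fun x t => ⟨(x : G) * t * (x : G)⁻¹, (mem_normalizer_iff.1 (hAT x.2) t).1 t.2⟩
      one_smul := fun t => Subtype.ext (by show (1 : G) * t * (1 : G)⁻¹ = t; simp)
      mul_smul := fun x y t => Subtype.ext (by
        show ((x : G) * y) * t * ((x : G) * y)⁻¹ = (x : G) * ((y : G) * t * (y : G)⁻¹) * (x : G)⁻¹
        group) }
  have h := hA.card_modEq_card_fixedPoints T
  have hcard : Nat.card (fixedPoints A T) = Nat.card (T ⊓ centralizer (A : Set G) : Subgroup G) := by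
    refine Nat.card_congr
      { toFun := fun t => ⟨(t.1 : G), t.1.2, mem_centralizer_iff.2 fun x hx =>
          mul_inv_eq_iff_eq_mul.1 (congrArg Subtype.val (t.2 ⟨x, hx⟩))⟩
        invFun := fun t => ⟨⟨t.1, t.2.1⟩, fun x => Subtype.ext
          (mul_inv_eq_iff_eq_mul.2 (mem_centralizer_iff.1 t.2.2 x x.2))⟩
        left_inv := fun t => rfl
        right_inv := fun t => rfl }
  obtain ⟨c, hca, hc⟩ := (Nat.dvd_prime_pow hq).1 (hT ▸ card_dvd_of_le (inf_le_left : T ⊓ centralizer (A : Set G) ≤ T))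
  rcases eq_or_lt_of_le hca with rfl | hlt
  · exact Or.inl (inf_eq_left.1 (eq_of_le_of_card_ge inf_le_left (by rw [hc, hT])))
  · refine Or.inr ⟨c, hlt, hc, not_modEq_pow hq hpq hlt ?_⟩
    rw [← hc, ← hcard, ← hT]
    exact h.symm

/-- A `p`-group normalising a `p'`-group without exceptional prime powers centralises it. -/
theorem le_centralizer_of_free {A N : Subgroup G} (hA : IsPGroup p A) (hAN : A ≤ normalizer (N : Set G))
    (hpN : ¬ p ∣ Nat.card N) (hfree : Free p (Nat.card N)) : N ≤ centralizer (A : Set G) := by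
  classical
  obtain ⟨b, hb⟩ := IsPGroup.iff_card.1 hA
  have hcop : (Nat.card A).Coprime (Nat.card N) := by
    rw [hb]
    exact Nat.Coprime.pow_left b ((hp.out.coprime_iff_not_dvd).2 hpN)
  haveI : Group.IsNilpotent A := hA.isNilpotent
  have hsolv : Group.IsSolvable A ∨ Group.IsSolvable N := Or.inl inferInstance
  set C := N ⊓ centralizer (A : Set G) with hC
  suffices h : Nat.card N ∣ Nat.card C from
    inf_eq_left.1 (eq_of_le_of_card_ge inf_le_left (Nat.le_of_dvd Nat.card_pos h))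
  refine (Nat.dvd_iff_prime_pow_dvd_dvd _ _).2 fun q k hq hdvd => ?_
  rcases Nat.eq_zero_or_pos k with rfl | hk
  · simp
  haveI : Fact q.Prime := ⟨hq⟩
  obtain ⟨T, hT⟩ := CfsgLib.CoprimeAct.exists_invariant_sylow hAN hcop hsolv q
  have hTc : Nat.card ((T : Subgroup N).map N.subtype) = q ^ (Nat.card N).factorization q := by
    rw [card_map_of_injective N.subtype_injective, T.card_eq_multiplicity]
  have hpq : p ≠ q := fun h => hpN (h ▸ (dvd_pow_self q hk.ne').trans hdvd)
  have hle : (T : Subgroup N).map N.subtype ≤ centralizer (A : Set G) := by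
    rcases centralizes_or_power hq hpq hA hT hTc with h | ⟨c, hca, -, h1⟩
    · exact h
    · exact absurd h1 (hfree q _ hq (by omega)
        ((pow_dvd_pow q (Nat.sub_le _ c)).trans (Nat.ordProj_dvd _ _)))
  refine (pow_dvd_pow q ((hq.pow_dvd_iff_le_factorization Nat.card_pos.ne').1 hdvd)).trans ?_
  rw [← hTc]
  exact card_dvd_of_le (le_inf (map_subtype_le _) hle)

theorem card_sylow_eq_prime (h : p ∣ Nat.card G) (hsq : ¬ p ^ 2 ∣ Nat.card G) (P : Sylow p G) :
    Nat.card (P : Subgroup G) = p := by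
  rw [P.card_eq_multiplicity]
  have h1 := (hp.out.pow_dvd_iff_le_factorization (k := 1) Nat.card_pos.ne').1 (by simpa using h)
  have h2 := (hp.out.pow_dvd_iff_le_factorization (k := 2) Nat.card_pos.ne').not.1 hsq
  rw [show (Nat.card G).factorization p = 1 by omega, pow_one]

theorem pn_of_not_dvd (h : ¬ p ∣ Nat.card G) : PN p G := fun P => by
  have : Nat.card (P : Subgroup G) = 1 := by
    rw [P.card_eq_multiplicity, Nat.factorization_eq_zero_of_not_dvd h, pow_zero]
  rw [Subgroup.eq_bot_of_card_eq _ this]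
  infer_instance

/-- Normal subgroups with a normal Sylow subgroup of full order. -/
theorem pn_of_normal (hsq : ¬ p ^ 2 ∣ Nat.card G) {N : Subgroup G} [N.Normal] (hpN : p ∣ Nat.card N)
    (h : PN p N) : PN p G := by
  intro P
  have hP := card_sylow_eq_prime (hpN.trans N.card_subgroup_dvd_card) hsq P
  have hle : (P : Subgroup G) ≤ N := by
    obtain ⟨R⟩ : Nonempty (Sylow p N) := inferInstance
    have hR := card_sylow_eq_prime (G := N) hpN (fun hd => hsq (hd.trans N.card_subgroup_dvd_card)) R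
    obtain ⟨P', hP'⟩ := (R.2.map N.subtype).exists_le_sylow
    obtain ⟨g, hg⟩ := MulAction.exists_smul_eq G P' P
    have heq : (R : Subgroup N).map N.subtype = (P' : Subgroup G) := eq_of_le_of_card_ge hP' (by
      rw [card_map_of_injective N.subtype_injective, hR,
        card_sylow_eq_prime (hpN.trans N.card_subgroup_dvd_card) hsq P'])
    rw [← hg]
    intro x hx
    obtain ⟨y, hy, rfl⟩ : x ∈ (P' : Subgroup G).map (MulAut.conj g).toMonoidHom := hx
    have hyN : y ∈ N := by
      rw [← heq] at hy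
      exact map_subtype_le _ hy
    exact ‹N.Normal›.conj_mem y hyN g
  haveI : Subsingleton (Sylow p N) := by
    haveI := h (P.subtype hle)
    exact (Sylow.unique_of_normal (P.subtype hle) ‹_›).instSubsingleton
  refine ⟨fun x hx g => ?_⟩
  have hconj : g • P = P := by
    have hle' : ((g • P : Sylow p G) : Subgroup G) ≤ N := by
      intro y hy
      obtain ⟨z, hz, rfl⟩ : y ∈ (P : Subgroup G).map (MulAut.conj g).toMonoidHom := hy
      exact ‹N.Normal›.conj_mem z (hle hz) g
    have h := congrArg (fun Q : Sylow p N => (Q : Subgroup N))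
      (Subsingleton.elim (P.subtype hle) ((g • P).subtype hle'))
    simp only [Sylow.coe_subtype, subgroupOf_inj, inf_eq_left.2 hle, inf_eq_left.2 hle'] at h
    exact Sylow.ext h.symm
  exact (mem_normalizer_iff.1 (Sylow.smul_eq_iff_mem_normalizer.1 hconj) x).1 hx

/-- A normal image of a Sylow subgroup centralising the kernel. -/
theorem normal_of_quotient {N : Subgroup G} [N.Normal] (P : Sylow p G) (hPc : Nat.card (P : Subgroup G) = p)
    (hpN : ¬ p ∣ Nat.card N) (hc : N ≤ centralizer ((P : Subgroup G) : Set G))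
    (h : ((P : Subgroup G).map (QuotientGroup.mk' N)).Normal) : (P : Subgroup G).Normal := by
  refine ⟨fun x hx g => ?_⟩
  have hmem : QuotientGroup.mk' N (g * x * g⁻¹) ∈ (P : Subgroup G).map (QuotientGroup.mk' N) := by
    rw [map_mul, map_mul, map_inv]
    exact h.conj_mem _ (mem_map_of_mem _ hx) _
  obtain ⟨y, hy, hyx⟩ := hmem
  obtain ⟨m, hm, hm'⟩ : ∃ m ∈ N, g * x * g⁻¹ = y * m :=
    ⟨y⁻¹ * (g * x * g⁻¹), QuotientGroup.eq.1 hyx, by rw [mul_inv_cancel_left]⟩
  have hpow : ∀ z ∈ (P : Subgroup G), z ^ p = 1 := fun z hz => by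
    have := congrArg Subtype.val (pow_card_eq_one' (x := (⟨z, hz⟩ : (P : Subgroup G))))
    rwa [hPc] at this
  have hcom : Commute y m := (mem_centralizer_iff.1 (hc hm) y hy)
  have hmp : m ^ p = 1 := by
    have h1 : (g * x * g⁻¹) ^ p = 1 := by rw [conj_pow, hpow x hx, mul_one, mul_inv_cancel]
    rwa [hm', hcom.mul_pow, hpow y hy, one_mul] at h1
  have hm1 : m = 1 := by
    have h2 : orderOf m ∣ Nat.card N := N.orderOf_dvd_natCard hm
    rcases (Nat.dvd_prime hp.out).1 (orderOf_dvd_of_pow_eq_one hmp) with h | h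
    · exact orderOf_eq_one_iff.1 h
    · exact absurd (h ▸ h2) hpN
  rw [hm', hm1, mul_one]
  exact hy

/-- The step from a factor group. -/
theorem pn_of_quotient (hsq : ¬ p ^ 2 ∣ Nat.card G) {N : Subgroup G} [N.Normal] (hpN : ¬ p ∣ Nat.card N)
    (hfree : Free p (Nat.card N)) (h : PN p (G ⧸ N)) : PN p G := by
  by_cases hpG : p ∣ Nat.card G
  swap
  · exact pn_of_not_dvd hpG
  intro P
  refine normal_of_quotient P (card_sylow_eq_prime hpG hsq P) hpN
    (le_centralizer_of_free P.2 (fun x _ => by rw [normalizer_eq_top]; exact mem_top x) hpN hfree) ?_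
  have h2 := h (P.mapSurjective (QuotientGroup.mk'_surjective N))
  rwa [Sylow.coe_mapSurjective] at h2

/-- A prime not dividing a prime power of a different prime. -/
theorem not_dvd_prime_pow {q a : ℕ} (hq : q.Prime) (hpq : p ≠ q) : ¬ p ∣ q ^ a := fun h =>
  hpq ((Nat.prime_dvd_prime_iff_eq hp.out hq).1 (hp.out.dvd_of_dvd_pow h))

/-- In a solvable group either the Sylow `p`-subgroup is normal, or a Sylow `q`-subgroup is abelian
and normal, provided `q ^ a` is the only exceptional prime power. -/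
theorem solvable_dichotomy {n q a : ℕ} (hq : q.Prime) (hpq : p ≠ q) (ha : a ≠ 0)
    (hn0 : n ≠ 0) (hsq : ¬ p ^ 2 ∣ n) (hqa : ¬ q ^ (a + 1) ∣ n)
    (hexc : ∀ r j : ℕ, r.Prime → j ≠ 0 → r ^ j ∣ n → r ^ j % p = 1 → r = q ∧ j = a) :
    ∀ (m : ℕ) (G : Type u) [Group G] [Finite G], Nat.card G = m → m ∣ n → Group.IsSolvable G →
      PN p G ∨ ∃ T : Subgroup G, T.Normal ∧ Nat.card T = q ^ a ∧ ∀ x ∈ T, ∀ y ∈ T, x * y = y * x := by
  classical
  intro m
  induction m using Nat.strong_induction_on with | _ m ih => ?_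
  intro G _ _ hm hmn hsolv
  by_cases hpG : p ∣ Nat.card G
  swap
  · exact Or.inl (pn_of_not_dvd hpG)
  haveI : Fact q.Prime := ⟨hq⟩
  haveI : Nontrivial G := Finite.one_lt_card_iff_nontrivial.1
    (lt_of_lt_of_le hp.out.one_lt (Nat.le_of_dvd Nat.card_pos hpG))
  have hsqG : ¬ p ^ 2 ∣ Nat.card G := fun h => hsq (h.trans (hm ▸ hmn))
  obtain ⟨M, hMn, hM1, -, hmin⟩ :=
    CfsgLib.Solvable.exists_minimal_normal_le (N := (⊤ : Subgroup G)) top_ne_bot
  haveI := hMn
  obtain ⟨hMc, r, hr, -, hMp⟩ := CfsgLib.Solvable.minimal_normal_elementary hM1 hmin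
    (Group.isSolvable_of_isSolvable_injective M.subtype_injective)
  haveI : Fact r.Prime := ⟨hr⟩
  obtain ⟨i, hi⟩ := IsPGroup.iff_card.1 hMp
  have hi0 : i ≠ 0 := fun h => hM1 (Subgroup.eq_bot_of_card_eq M (by rw [hi, h, pow_zero]))
  have hMd : Nat.card M ∣ n := (card_subgroup_dvd_card M).trans (hm ▸ hmn)
  by_cases hrp : r = p
  · subst hrp
    refine Or.inl (pn_of_normal hsqG (hi ▸ dvd_pow_self r hi0) fun R => ?_)
    exact ⟨fun x hx g => by
      have := congrArg Subtype.val
        ((‹IsMulCommutative M›).is_comm.comm g x)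
      rw [show g * x * g⁻¹ = x from Subtype.ext (by
        rw [Subgroup.coe_mul, Subgroup.coe_mul, Subgroup.coe_inv]
        have h2 : (g : G) * x = x * g := this
        rw [h2, mul_inv_cancel_right])]
      exact hx⟩
  have hpM : ¬ p ∣ Nat.card M := hi ▸ not_dvd_prime_pow hr (Ne.symm hrp)
  have hQc : Nat.card (G ⧸ M) * Nat.card M = Nat.card G :=
    (card_eq_card_quotient_mul_card_subgroup M).symm
  have hMgt : 1 < Nat.card M := (one_lt_card_iff_ne_bot M).2 hM1
  have hQlt : Nat.card (G ⧸ M) < m := by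
    rw [← hm, ← hQc]
    exact lt_mul_of_one_lt_right Nat.card_pos hMgt
  by_cases hT : r = q ∧ i = a
  · exact Or.inr ⟨M, hMn, by rw [hi, hT.1, hT.2], fun x hx y hy =>
      congrArg Subtype.val (hMc.is_comm.comm (⟨x, hx⟩ : M) ⟨y, hy⟩)⟩
  have hfree : Free p (Nat.card M) := fun s j hs hj hdvd h1 => by
    obtain ⟨rfl, rfl⟩ := hexc s j hs hj (hdvd.trans hMd) h1
    rw [hi] at hdvd
    obtain rfl := (Nat.prime_dvd_prime_iff_eq hs hr).1 (hs.dvd_of_dvd_pow ((dvd_pow_self s hj).trans hdvd))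
    have h2 : j ≤ i := (Nat.pow_dvd_pow_iff_le_right hs.one_lt).1 hdvd
    have h3 : ¬ j + 1 ≤ i := fun h => hqa ((pow_dvd_pow _ h).trans (hi ▸ hMd))
    exact hT ⟨rfl, by omega⟩
  by_cases hQ : PN p (G ⧸ M)
  · exact Or.inl (pn_of_quotient hsqG hpM hfree hQ)
  obtain hQ' | ⟨T, hTn, hTc, hTcomm⟩ := ih _ hQlt (G ⧸ M) rfl
    ((Dvd.intro _ hQc).trans (hm ▸ hmn)) (Group.isSolvable_of_surjective (QuotientGroup.mk'_surjective M))
  · exact absurd hQ' hQ
  refine Or.inr ?_
  haveI := hTn
  have hrq : r ≠ q := fun h => hqa (by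
    have h1 : q ^ (i + a) ∣ n := by
      rw [pow_add, ← hTc]
      nth_rw 1 [← h]
      rw [← hi, mul_comm]
      exact (Nat.mul_dvd_mul_right (card_subgroup_dvd_card T) _).trans (hQc ▸ hm ▸ hmn)
    exact (pow_dvd_pow q (by omega)).trans h1)
  obtain ⟨P₀⟩ : Nonempty (Sylow p G) := inferInstance
  set C := centralizer (M : Set G)
  haveI hCn : C.Normal := Subgroup.normal_centralizer
  have hP₀C : (P₀ : Subgroup G) ≤ C := fun x hx => mem_centralizer_iff.2 fun z hz =>
    (mem_centralizer_iff.1 (le_centralizer_of_free P₀.2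
      (fun x _ => by rw [normalizer_eq_top]; exact mem_top x) hpM hfree hz) x hx).symm
  set P' : Sylow p (G ⧸ M) := P₀.mapSurjective (QuotientGroup.mk'_surjective M) with hP'
  have hpQ : p ∣ Nat.card (G ⧸ M) := by
    rcases (hp.out.dvd_mul).1 (hQc ▸ hpG) with h | h
    · exact h
    · exact absurd h hpM
  have hsqQ : ¬ p ^ 2 ∣ Nat.card (G ⧸ M) := fun h => hsqG (h.trans (Dvd.intro _ hQc))
  have hpT : ¬ p ∣ Nat.card T := hTc ▸ not_dvd_prime_pow hq hpq
  -- the quotient by `T` has normal Sylow subgroups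
  have hQT : PN p ((G ⧸ M) ⧸ T) := by
    have hc := card_eq_card_quotient_mul_card_subgroup T
    obtain h | ⟨T', -, hT', -⟩ := ih _ (lt_of_le_of_lt (Nat.le_of_dvd Nat.card_pos (Dvd.intro _ hc.symm)) hQlt)
      ((G ⧸ M) ⧸ T) rfl (((Dvd.intro _ hc.symm).trans (Dvd.intro _ hQc)).trans (hm ▸ hmn))
      (Group.isSolvable_of_surjective (f := (QuotientGroup.mk' T).comp (QuotientGroup.mk' M))
        ((QuotientGroup.mk'_surjective T).comp (QuotientGroup.mk'_surjective M)))
    · exact h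
    · exfalso
      have h1 : q ^ a * q ^ a ∣ Nat.card (G ⧸ M) := by
        rw [hc]
        exact Nat.mul_dvd_mul (hT' ▸ card_subgroup_dvd_card T') hTc.symm.dvd
      exact hqa ((pow_dvd_pow q (by omega)).trans
        (((pow_add q a a).symm ▸ h1).trans ((Dvd.intro _ hQc).trans (hm ▸ hmn))))
  have hbot : T ⊓ centralizer ((P' : Subgroup (G ⧸ M)) : Set (G ⧸ M)) = ⊥ := by
    rcases centralizes_or_power hq hpq (T := T) P'.2 (fun x _ => by rw [normalizer_eq_top]; exact mem_top x)
      hTc with h | ⟨c, hca, hc, h1⟩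
    · refine absurd (fun R => ?_) hQ
      have hn : (P' : Subgroup (G ⧸ M)).Normal := normal_of_quotient P' (card_sylow_eq_prime hpQ hsqQ P') hpT h (by
        have := hQT (P'.mapSurjective (QuotientGroup.mk'_surjective T))
        rwa [Sylow.coe_mapSurjective] at this)
      haveI := (Sylow.unique_of_normal P' hn).instSubsingleton
      rw [Subsingleton.elim R P']
      exact hn
    · obtain ⟨-, hj⟩ := hexc q (a - c) hq (by omega) ((pow_dvd_pow q (Nat.sub_le a c)).trans
        (hTc ▸ (card_subgroup_dvd_card T).trans ((Dvd.intro _ hQc).trans (hm ▸ hmn)))) h1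
      exact Subgroup.eq_bot_of_card_eq _ (by rw [hc, show c = 0 by omega, pow_zero])
  -- the commutators with a generator fill `T`
  have hTC : T ≤ C.map (QuotientGroup.mk' M) := by
    have hP'c := card_sylow_eq_prime hpQ hsqQ P'
    obtain ⟨x, hx⟩ := exists_prime_orderOf_dvd_card' (G := (P' : Subgroup (G ⧸ M))) p hP'c.symm.dvd
    have hxC : (x : G ⧸ M) ∈ C.map (QuotientGroup.mk' M) := by
      have h1 : (x : G ⧸ M) ∈ (P₀ : Subgroup G).map (QuotientGroup.mk' M) := by
        rw [← Sylow.coe_mapSurjective (QuotientGroup.mk'_surjective M) P₀]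
        exact x.2
      exact map_mono hP₀C h1
    haveI : (C.map (QuotientGroup.mk' M)).Normal := hCn.map _ (QuotientGroup.mk'_surjective M)
    let f : T → T := fun t => ⟨(t : G ⧸ M) * ((x : G ⧸ M) * (t : G ⧸ M)⁻¹ * (x : G ⧸ M)⁻¹),
      T.mul_mem t.2 (hTn.conj_mem _ (T.inv_mem t.2) _)⟩
    have hf : Function.Injective f := by
      intro s t h
      have h' : (s : G ⧸ M) * ((x : G ⧸ M) * (s : G ⧸ M)⁻¹ * (x : G ⧸ M)⁻¹) =
          (t : G ⧸ M) * ((x : G ⧸ M) * (t : G ⧸ M)⁻¹ * (x : G ⧸ M)⁻¹) := congrArg Subtype.val h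
      have hz : zpowers (x : G ⧸ M) = (P' : Subgroup (G ⧸ M)) := eq_of_le_of_card_ge (zpowers_le.2 x.2)
        (by rw [hP'c, Nat.card_zpowers, Subgroup.orderOf_coe, hx])
      have hmem : (t : G ⧸ M)⁻¹ * s ∈ T ⊓ centralizer ((P' : Subgroup (G ⧸ M)) : Set (G ⧸ M)) := by
        refine ⟨T.mul_mem (T.inv_mem t.2) s.2, ?_⟩
        rw [← hz, zpowers_eq_closure, centralizer_closure]
        refine mem_centralizer_singleton_iff.2 ?_
        calc (t : G ⧸ M)⁻¹ * s * x
            = (t : G ⧸ M)⁻¹ * ((s : G ⧸ M) * ((x : G ⧸ M) * (s : G ⧸ M)⁻¹ * (x : G ⧸ M)⁻¹)) * x * s := by group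
          _ = x * ((t : G ⧸ M)⁻¹ * s) := by rw [h']; group
      rw [hbot, mem_bot, inv_mul_eq_one] at hmem
      exact Subtype.ext hmem.symm
    intro t ht
    obtain ⟨s, hs⟩ := (Finite.injective_iff_surjective.1 hf) ⟨t, ht⟩
    have hs' : (s : G ⧸ M) * ((x : G ⧸ M) * (s : G ⧸ M)⁻¹ * (x : G ⧸ M)⁻¹) = t := congrArg Subtype.val hs
    rw [← hs', ← mul_assoc, ← mul_assoc]
    exact mul_mem (‹(C.map (QuotientGroup.mk' M)).Normal›.conj_mem _ hxC _) (inv_mem hxC)
  -- the preimage splits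
  set K := T.comap (QuotientGroup.mk' M)
  have hMC : M ≤ C := fun z hz => mem_centralizer_iff.2 fun w hw =>
    congrArg Subtype.val (hMc.is_comm.comm (⟨w, hw⟩ : M) ⟨z, hz⟩)
  have hKC : K ≤ C := fun y hy => by
    obtain ⟨z, hz, hzy⟩ := hTC hy
    have hm' : z⁻¹ * y ∈ M := QuotientGroup.eq.1 hzy
    simpa using C.mul_mem hz (hMC hm')
  have hMK : M ≤ K := fun z hz => by
    rw [mem_comap, QuotientGroup.mk'_apply, (QuotientGroup.eq_one_iff z).2 hz]
    exact T.one_mem
  obtain ⟨R⟩ : Nonempty (Sylow q K) := inferInstance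
  set R' := (R : Subgroup K).map K.subtype
  have hKcard : Nat.card K = q ^ a * Nat.card M := by
    have h1 := M.subgroupOf K |>.card_eq_card_quotient_mul_card_subgroup
    rw [Nat.card_congr (subgroupOfEquivOfLe hMK).toEquiv] at h1
    rw [h1]
    congr 1
    rw [← hTc]
    refine Nat.card_eq_of_bijective
      (QuotientGroup.lift (M.subgroupOf K) ((QuotientGroup.mk' M).subgroupComap T) fun y hy => by
        exact Subtype.ext ((QuotientGroup.eq_one_iff (y : G)).2 (mem_subgroupOf.1 hy))) ⟨?_, ?_⟩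
    · refine (injective_iff_map_eq_one _).2 fun z hz => ?_
      induction z using QuotientGroup.induction_on with
      | _ y =>
        rw [QuotientGroup.eq_one_iff, mem_subgroupOf]
        exact (QuotientGroup.eq_one_iff (y : G)).1 (congrArg Subtype.val hz)
    · rintro ⟨t, ht⟩
      obtain ⟨y, rfl⟩ := QuotientGroup.mk'_surjective M t
      exact ⟨((⟨y, ht⟩ : K) : K ⧸ M.subgroupOf K), rfl⟩
  have hqM : ¬ q ∣ Nat.card M := fun h => hrq ((Nat.prime_dvd_prime_iff_eq hq hr).1
    (hq.dvd_of_dvd_pow (hi ▸ h))).symm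
  have hRc : Nat.card R' = q ^ a := by
    rw [card_map_of_injective K.subtype_injective, R.card_eq_multiplicity]
    congr 1
    rw [hKcard, Nat.factorization_mul (pow_ne_zero _ hq.ne_zero) Nat.card_pos.ne', Finsupp.add_apply,
      hq.factorization_pow, Finsupp.single_eq_same, Nat.factorization_eq_zero_of_not_dvd hqM, add_zero]
  have hRK : R' ≤ K := map_subtype_le _
  have hpowR : ∀ y ∈ R', y ^ (q ^ a) = 1 := fun y hy => by
    have := congrArg Subtype.val (pow_card_eq_one' (x := (⟨y, hy⟩ : R')))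
    rwa [hRc] at this
  have hRM : ∀ y ∈ R', y ∈ M → y = 1 := fun y hy hyM => by
    have h1 : orderOf y ∣ q ^ a := orderOf_dvd_of_pow_eq_one (hpowR y hy)
    have h2 : orderOf y ∣ Nat.card M := M.orderOf_dvd_natCard hyM
    exact orderOf_eq_one_iff.1 (Nat.eq_one_of_dvd_coprimes
      (Nat.Coprime.pow_left a ((hq.coprime_iff_not_dvd).2 hqM)) h1 h2)
  have hsurj : ∀ t ∈ T, ∃ y ∈ R', QuotientGroup.mk' M y = t := by
    have heq : R'.map (QuotientGroup.mk' M) = T := by
      refine eq_of_le_of_card_ge (map_le_iff_le_comap.2 hRK) (le_of_eq ?_)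
      rw [hTc, ← hRc]
      refine Nat.card_congr (Equiv.ofBijective
        (fun y : R' => (⟨_, mem_map_of_mem (QuotientGroup.mk' M) y.2⟩ : R'.map (QuotientGroup.mk' M)))
        ⟨fun y z h => Subtype.ext ?_, ?_⟩)
      · have h' : QuotientGroup.mk' M (y : G) = QuotientGroup.mk' M (z : G) := congrArg Subtype.val h
        exact inv_mul_eq_one.1 (hRM _ (R'.mul_mem (R'.inv_mem y.2) z.2) (QuotientGroup.eq.1 h'))
      · rintro ⟨_, y, hy, rfl⟩
        exact ⟨⟨y, hy⟩, rfl⟩
    intro t ht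
    rw [← heq] at ht
    exact ht
  refine ⟨R', ⟨fun y hy g => ?_⟩, hRc, fun x hx y hy => ?_⟩
  · have hgy : QuotientGroup.mk' M (g * y * g⁻¹) ∈ T := by
      rw [map_mul, map_mul, map_inv]
      exact hTn.conj_mem _ (hRK hy) _
    obtain ⟨z, hz, hzy⟩ := hsurj _ hgy
    have hm' : z⁻¹ * (g * y * g⁻¹) ∈ M := QuotientGroup.eq.1 hzy
    have hcom : Commute z (z⁻¹ * (g * y * g⁻¹)) :=
      (mem_centralizer_iff.1 (hKC (hRK hz)) _ hm').symm
    have h1 : (z⁻¹ * (g * y * g⁻¹)) ^ (q ^ a) = 1 := by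
      have h2 : (z * (z⁻¹ * (g * y * g⁻¹))) ^ (q ^ a) = 1 := by
        rw [mul_inv_cancel_left, conj_pow, hpowR y hy, mul_one, mul_inv_cancel]
      rwa [hcom.mul_pow, hpowR z hz, one_mul] at h2
    have hone : z⁻¹ * (g * y * g⁻¹) = 1 := orderOf_eq_one_iff.1 (Nat.eq_one_of_dvd_coprimes
      (Nat.Coprime.pow_left a ((hq.coprime_iff_not_dvd).2 hqM)) (orderOf_dvd_of_pow_eq_one h1)
      (M.orderOf_dvd_natCard hm'))
    rw [← inv_mul_eq_one.1 hone]
    exact hz
  · have h1 : QuotientGroup.mk' M (x * y) = QuotientGroup.mk' M (y * x) := by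
      rw [map_mul, map_mul]
      exact hTcomm _ (hRK hx) _ (hRK hy)
    exact inv_mul_eq_one.1 (hRM _ (R'.mul_mem (R'.inv_mem (R'.mul_mem hx hy)) (R'.mul_mem hy hx))
      (QuotientGroup.eq.1 h1))

end CfsgLib.SmallDegreeGraph
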