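import Cfsg.Agent.SmallDegreeGraph.Tools
import Cfsg.Agent.SmallSimple.L33Order.Main
import Cfsg.Agent.S0494
import Cfsg.Agent.S0495
import Cfsg.Agent.S0497
import Cfsg.Agent.S0498
import Cfsg.Agent.S1011
import Cfsg.Agent.S1020
import Cfsg.Agent.S1021
import Cfsg.Agent.S0981
import Cfsg.Agent.S3669
import Cfsg.Agent.S4774
import Cfsg.Agent.S4812

/-!
# Groups with the order and the degree graph of a small simple group
-/

set_option autoImplicit false
set_option linter.style.haveILetI false

namespace CfsgLib.SmallDegreeGraph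

open CfsgLib.Char

universe u v

variable {S : Type v} [Group S] [Finite S] [IsSimpleGroup S] {G : Type u} [Group G] [Finite G]

/-- A simple group of order 60. -/
theorem case_sixty (hS : Nat.card S = 60) (hc : Nat.card G = 60) (hV : Cfsg.degreePrimes G = Cfsg.degreePrimes S)
    (hE : Cfsg.degreeGraph G = Cfsg.degreeGraph S) : Nonempty (G ≃* S) := by
  obtain ⟨e⟩ := Cfsg.Agent.S0494.result hS
  obtain ⟨f⟩ := Cfsg.Agent.S3669.result hc ⟨hV.trans (degreePrimes_congr e), hE.trans (degreeGraph_congr e)⟩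
  exact ⟨f.trans e.symm⟩

/-- A non-simple group misses a vertex `p` when no exceptional power occurs. -/
theorem simple_of_free {p n : ℕ} [Fact p.Prime] (hn : n < 6000) (hn0 : n ≠ 0) (hsq : ¬ p ^ 2 ∣ n)
    (hfree : freeB p n [] = true) (hl : ∀ k ∈ simpleOrders, k ∣ n → p ∣ k → k = n) (hc : Nat.card G = n)
    (hV : Cfsg.degreePrimes G = Cfsg.degreePrimes S) (hp : p ∈ Cfsg.degreePrimes S) : IsSimpleGroup G := by
  by_contra h
  exact not_mem_of_not_simple hn hn0 hsq hfree hl G hc h (hV ▸ hp)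

/-- The vertices of a projective special linear group of degree two over a field of odd order. -/
theorem mem_psl_odd {F : Type} [Field F] [Fintype F] {t q : ℕ} [Fact t.Prime] [CharP F t] (ht : t ≠ 2)
    (hq : Fintype.card F = q) (h5 : 5 < q) (e : Nonempty (S ≃* Matrix.ProjectiveSpecialLinearGroup (Fin 2) F))
    {p : ℕ} (hp : p.Prime) (hd : p ∣ q * (q ^ 2 - 1)) : p ∈ Cfsg.degreePrimes S := by
  rw [(Cfsg.Agent.S4774.result F t ht q hq h5 (Or.inl e)).1]
  exact ⟨hp, hd⟩

/-- A simple group of order 660 or 1092. -/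
theorem case_psl_prime {p n : ℕ} (hp : p = 11 ∨ p = 13) (hn : 2 * n = p * (p ^ 2 - 1))
    (hS : Nat.card S = n) (hc : Nat.card G = n) (hV : Cfsg.degreePrimes G = Cfsg.degreePrimes S) :
    Nonempty (G ≃* S) := by
  haveI hpf : Fact p.Prime := ⟨by rcases hp with rfl | rfl <;> norm_num⟩
  have e := Cfsg.Agent.S0498.result p hp (by rw [hS, hn]) (F := ZMod p) (ZMod.card p)
  have hmem := mem_psl_odd (F := ZMod p) (t := p) (by omega) (ZMod.card p) (by omega) e hpf.out (dvd_mul_right p _)
  haveI : IsSimpleGroup G := by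
    rcases hp with rfl | rfl
    · obtain rfl : n = 660 := by omega
      exact simple_of_free (p := 11) (by norm_num) (by norm_num) (by norm_num) (by decide +kernel) (by decide) hc hV hmem
    · obtain rfl : n = 1092 := by omega
      exact simple_of_free (p := 13) (by norm_num) (by norm_num) (by norm_num) (by decide +kernel) (by decide) hc hV hmem
  obtain ⟨f⟩ := e
  obtain ⟨g⟩ := Cfsg.Agent.S0498.result (G := G) p hp (by rw [hc, hn]) (F := ZMod p) (ZMod.card p)
  exact ⟨g.trans f.symm⟩

/-- A simple group of order 2448. -/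
theorem case_seventeen (hS : Nat.card S = 2448) (hc : Nat.card G = 2448)
    (hV : Cfsg.degreePrimes G = Cfsg.degreePrimes S) : Nonempty (G ≃* S) := by
  haveI : Fact (Nat.Prime 17) := ⟨by norm_num⟩
  have e := Cfsg.Agent.S1020.result hS (F := ZMod 17) (ZMod.card 17)
  haveI : IsSimpleGroup G := simple_of_free (p := 17) (n := 2448) (by norm_num) (by norm_num) (by norm_num)
    (by decide +kernel) (by decide) hc hV
    (mem_psl_odd (F := ZMod 17) (t := 17) (by norm_num) (ZMod.card 17) (by norm_num) e (by norm_num) (by norm_num))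
  obtain ⟨f⟩ := e
  obtain ⟨g⟩ := Cfsg.Agent.S1020.result (G := G) hc (F := ZMod 17) (ZMod.card 17)
  exact ⟨g.trans f.symm⟩

/-- A simple group of order 3420. -/
theorem case_nineteen (hS : Nat.card S = 3420) (hc : Nat.card G = 3420)
    (hV : Cfsg.degreePrimes G = Cfsg.degreePrimes S) : Nonempty (G ≃* S) := by
  haveI : Fact (Nat.Prime 19) := ⟨by norm_num⟩
  have e := Cfsg.Agent.S1021.result hS (F := ZMod 19) (ZMod.card 19)
  haveI : IsSimpleGroup G := simple_of_free (p := 19) (n := 3420) (by norm_num) (by norm_num) (by norm_num)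
    (by decide +kernel) (by decide) hc hV
    (mem_psl_odd (F := ZMod 19) (t := 19) (by norm_num) (ZMod.card 19) (by norm_num) e (by norm_num) (by norm_num))
  obtain ⟨f⟩ := e
  obtain ⟨g⟩ := Cfsg.Agent.S1021.result (G := G) hc (F := ZMod 19) (ZMod.card 19)
  exact ⟨g.trans f.symm⟩

/-- A simple group of order 4080. -/
theorem case_sixteen (hS : Nat.card S = 4080) (hc : Nat.card G = 4080)
    (hV : Cfsg.degreePrimes G = Cfsg.degreePrimes S) : Nonempty (G ≃* S) := by
  haveI : Fact (Nat.Prime 2) := ⟨Nat.prime_two⟩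
  haveI : Fact (Nat.Prime 17) := ⟨by norm_num⟩
  letI := Fintype.ofFinite (GaloisField 2 4)
  have hF : Fintype.card (GaloisField 2 4) = 16 := by
    rw [← Nat.card_eq_fintype_card, GaloisField.card 2 4 (by norm_num)]; norm_num
  have e := Cfsg.Agent.S0981.result hS hF
  haveI : IsSimpleGroup G := simple_of_free (p := 17) (n := 4080) (by norm_num) (by norm_num) (by norm_num)
    (by decide +kernel) (by decide) hc hV (by
    rw [(Cfsg.Agent.S4812.result (GaloisField 2 4) 16 hF (by norm_num) (Or.inl e)).1]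
    exact ⟨by norm_num, by norm_num⟩)
  obtain ⟨f⟩ := e
  obtain ⟨g⟩ := Cfsg.Agent.S0981.result (G := G) hc hF
  exact ⟨g.trans f.symm⟩

/-- A simple group of order 168. -/
theorem case_one_sixty_eight (hS : Nat.card S = 168) (hc : Nat.card G = 168)
    (hV : Cfsg.degreePrimes G = Cfsg.degreePrimes S) : Nonempty (G ≃* S) := by
  haveI : Fact (Nat.Prime 7) := ⟨by norm_num⟩
  have e := Cfsg.Agent.S0495.result hS (F := ZMod 7) (ZMod.card 7)
  have hmem : ∀ p : ℕ, p.Prime → p ∣ 336 → p ∈ Cfsg.degreePrimes G := fun p hp hd => hV ▸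
    mem_psl_odd (F := ZMod 7) (t := 7) (by norm_num) (ZMod.card 7) (by norm_num) e hp (by simpa using hd)
  have hns : ¬ Group.IsSolvable G := fun hs => by
    rcases not_mem_of_solvable (p := 7) (q := 2) (a := 3) Nat.prime_two (by norm_num) (by norm_num) (by norm_num)
      (by norm_num) (by norm_num) (by decide +kernel) G hc hs with h | h
    · exact h (hmem 7 (by norm_num) (by norm_num))
    · exact h (hmem 2 Nat.prime_two (by norm_num))
  haveI := (simple_of_not_solvable 168 G hc (by norm_num) (by decide) hns).1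
  obtain ⟨f⟩ := e
  obtain ⟨g⟩ := Cfsg.Agent.S0495.result (G := G) hc (F := ZMod 7) (ZMod.card 7)
  exact ⟨g.trans f.symm⟩

/-- Two and three are joined in the simple group of order 168. -/
theorem six_dvd_degree {H : Type u} [Group H] [Finite H] [IsSimpleGroup H] (hH : Nat.card H = 168) :
    ∃ d ∈ Cfsg.charDegrees H, 2 * 3 ∣ d := by
  haveI : Fact (Nat.Prime 7) := ⟨by norm_num⟩
  have e := Cfsg.Agent.S0495.result hH (F := ZMod 7) (ZMod.card 7)
  have h := ((Cfsg.Agent.S4774.result (ZMod 7) 7 (by norm_num) 7 (ZMod.card 7) (by norm_num) (Or.inl e)).2 2 3).2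
    ⟨by norm_num, Nat.prime_two, Nat.prime_three, by norm_num, by norm_num, Or.inl rfl⟩
  exact h.2.2.2

/-- A simple group of order 504. -/
theorem case_five_oh_four (hS : Nat.card S = 504) (hc : Nat.card G = 504)
    (hV : Cfsg.degreePrimes G = Cfsg.degreePrimes S) (hE : Cfsg.degreeGraph G = Cfsg.degreeGraph S) :
    Nonempty (G ≃* S) := by
  haveI : Fact (Nat.Prime 2) := ⟨Nat.prime_two⟩
  haveI : Fact (Nat.Prime 7) := ⟨by norm_num⟩
  letI := Fintype.ofFinite (GaloisField 2 3)
  have hF : Fintype.card (GaloisField 2 3) = 8 := by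
    rw [← Nat.card_eq_fintype_card, GaloisField.card 2 3 (by norm_num)]; norm_num
  have e := Cfsg.Agent.S1011.result hS hF
  obtain ⟨hV8, hE8⟩ := Cfsg.Agent.S4812.result (GaloisField 2 3) 8 hF (by norm_num) (Or.inl e)
  have hns : ¬ Group.IsSolvable G := fun hs => by
    rcases not_mem_of_solvable (p := 7) (q := 2) (a := 3) Nat.prime_two (by norm_num) (by norm_num) (by norm_num)
      (by norm_num) (by norm_num) (by decide +kernel) G hc hs with h | h <;>
      refine h ?_ <;> rw [hV, hV8] <;> exact ⟨by norm_num, by norm_num⟩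
  by_cases hs : IsSimpleGroup G
  · haveI := hs
    obtain ⟨f⟩ := e
    obtain ⟨g⟩ := Cfsg.Agent.S1011.result (G := G) hc hF
    exact ⟨g.trans f.symm⟩
  exfalso
  haveI : Nontrivial G := Finite.one_lt_card_iff_nontrivial.1 (by rw [hc]; norm_num)
  obtain ⟨N, hN, hN1, hN2⟩ : ∃ N : Subgroup G, N.Normal ∧ N ≠ ⊥ ∧ N ≠ ⊤ := by
    by_contra! h'
    exact hs ⟨fun N hN => or_iff_not_imp_left.2 (h' N hN)⟩
  haveI := hN
  have key : ∀ (H : Type u) [Group H] [Finite H], Nat.card H ∣ 504 → Nat.card H < 504 → ¬ Group.IsSolvable H →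
      ∃ d ∈ Cfsg.charDegrees H, 2 * 3 ∣ d := by
    intro H _ _ hd hlt hH
    have hd' : Nat.card H ∈ Nat.divisors 504 := Nat.mem_divisors.2 ⟨hd, by norm_num⟩
    have h1 : ∀ m ∈ Nat.divisors 504, m < 504 →
        (∀ k ∈ simpleOrders, k ∣ m → k = m) ∧ (m ∈ simpleOrders → m = 168) := by decide +kernel
    obtain ⟨h2, h3⟩ := h1 _ hd' hlt
    obtain ⟨hsimp, -, hmem⟩ := simple_of_not_solvable _ H rfl (by omega) h2 hH
    haveI := hsimp
    exact six_dvd_degree (h3 hmem)
  obtain ⟨d, hd, h6⟩ : ∃ d ∈ Cfsg.charDegrees G, 2 * 3 ∣ d := by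
    by_cases hsN : Group.IsSolvable N
    · obtain ⟨d, hd, h6⟩ := key (G ⧸ N) (hc ▸ N.card_quotient_dvd_card) (by
        rw [← hc, N.card_eq_card_quotient_mul_card_subgroup]
        exact lt_mul_of_one_lt_right Nat.card_pos (N.one_lt_card_iff_ne_bot.2 hN1)) fun hq => hns
          (Group.isSolvable_of_ker_le_range N.subtype (QuotientGroup.mk' N)
            (by rw [QuotientGroup.ker_mk', Subgroup.range_subtype]))
      exact ⟨d, charDegrees_subset_of_surjective (QuotientGroup.mk' N) (QuotientGroup.mk'_surjective N) hd, h6⟩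
    · obtain ⟨d, hd, h6⟩ := key N (hc ▸ N.card_subgroup_dvd_card)
        (hc ▸ lt_of_le_of_ne N.card_le_card_group fun e' => hN2 (N.eq_top_of_card_eq e')) hsN
      obtain ⟨d', hd', hdd⟩ := exists_dvd_degree hd
      exact ⟨d', hd', h6.trans hdd⟩
  have hadj : (Cfsg.degreeGraph G).Adj 2 3 := ⟨by norm_num, Nat.prime_two, Nat.prime_three, d, hd, h6⟩
  rw [hE, hE8] at hadj
  norm_num at hadj

/-- A simple group of order 5616. -/
theorem case_fifty_six_sixteen (hna : ¬ IsMulCommutative S) (hS : Nat.card S = 5616) (hc : Nat.card G = 5616)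
    (hV : Cfsg.degreePrimes G = Cfsg.degreePrimes S) : Nonempty (G ≃* S) := by
  classical
  haveI : Fact (Nat.Prime 13) := ⟨by norm_num⟩
  obtain ⟨g, -, A, B, C, R, -, -, -, -, -, D⟩ := CfsgLib.L33Order.exists_setup hna hS
  have h3 : 3 ∈ Cfsg.degreePrimes S :=
    ⟨Nat.prime_three, 12, mem_charDegrees D.irrA (by rw [D.degA]; norm_num), by norm_num⟩
  have h13 : 13 ∈ Cfsg.degreePrimes S := by
    rcases R.eq_empty_or_nonempty with hR | ⟨χ, hχ⟩
    · exfalso
      have h := sum_degree_sq (G := S)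
      rw [hS, D.sum_irr, hR, Finset.sum_empty, D.degA, D.degB, Finset.sum_congr rfl (fun i _ => by rw [D.degC]),
        Finset.sum_const, Finset.card_univ, Fintype.card_fin] at h
      norm_num at h
    · obtain ⟨m, hm⟩ := D.degR χ hχ
      exact ⟨by norm_num, 13 * m, mem_charDegrees (D.irrR χ hχ) (by rw [hm]; norm_num), dvd_mul_right _ _⟩
  have hns : ¬ Group.IsSolvable G := fun hs => by
    rcases not_mem_of_solvable (p := 13) (q := 3) (a := 3) Nat.prime_three (by norm_num) (by norm_num) (by norm_num)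
      (by norm_num) (by norm_num) (by decide +kernel) G hc hs with h | h
    · exact h (hV ▸ h13)
    · exact h (hV ▸ h3)
  obtain ⟨hsimp, hnaG, -⟩ := simple_of_not_solvable 5616 G hc (by norm_num) (by decide) hns
  haveI := hsimp
  exact CfsgLib.L33Order.nonempty_mulEquiv hnaG hc hna hS

end CfsgLib.SmallDegreeGraph
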