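import Cfsg.Agent.SmallDegreeGraph.Tools
import Cfsg.Agent.Char.Constituents
import Cfsg.Agent.Char.Linear
import Cfsg.Agent.Char.DegreeSums
import Cfsg.Agent.SmallDegree.PrimeDegrees
import Mathlib.GroupTheory.SpecificGroups.Alternating.Simple

/-!
# Degrees of the alternating and symmetric groups of degree five

Five classes force the degrees 1, 3, 3, 4, 5 of `A₅`; a character separating the two classes of
five-cycles has degree three and is moved by `S₅`, whence `S₅` has a degree divisible by six.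
-/

set_option autoImplicit false
set_option linter.style.haveILetI false

namespace CfsgLib.SmallDegreeGraph

open CfsgLib.Char Equiv

/-- The trivial character is the only one of degree one of a perfect group. -/
theorem eq_one_of_perfect {G : Type*} [Group G] [Finite G] (hperf : commutator G = ⊤) {χ : G → ℂ}
    (hχ : Cfsg.IsIrrCharacter G χ) (h1 : χ 1 = 1) : χ = fun _ => 1 := by
  obtain ⟨lam, rfl⟩ := IsCharacter.exists_hom (IsIrrCharacter.isCharacter hχ) h1
  funext g
  have h : lam g = 1 :=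
    MonoidHom.mem_ker.1 (Abelianization.commutator_subset_ker lam (hperf ▸ Subgroup.mem_top g))
  simp [h]

local notation "A5" => alternatingGroup (Fin 5)

theorem altFive_perfect : commutator A5 = ⊤ := by
  haveI := alternatingGroup.isSimpleGroup (α := Fin 5) (by simp)
  refine (inferInstance : (commutator A5).Normal).eq_bot_or_eq_top.resolve_left fun h => ?_
  have : ∀ a b : A5, a * b = b * a := fun a b =>
    commutatorElement_eq_one_iff_mul_comm.1
      ((Subgroup.mem_bot).1 (h ▸ Subgroup.commutator_mem_commutator (Subgroup.mem_top a) (Subgroup.mem_top b)))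
  exact absurd this (by decide +kernel)

theorem card_altFive : Nat.card A5 = 60 := by
  rw [nat_card_alternatingGroup, Nat.card_eq_fintype_card, Fintype.card_fin]
  rfl

theorem altFive_degree_mem {θ : A5 → ℂ} (hθ : Cfsg.IsIrrCharacter A5 θ) (h : θ ≠ fun _ => 1) :
    cdeg θ ∈ [3, 4, 5, 6] := by
  haveI := alternatingGroup.isSimpleGroup (α := Fin 5) (by simp)
  have hd : cdeg θ ∣ 60 := card_altFive ▸ IsIrrCharacter.degree_dvd_card hθ (irr_apply_one_eq_cdeg hθ)
  have h1 : cdeg θ ≠ 1 := fun h1 =>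
    h (eq_one_of_perfect altFive_perfect hθ (by rw [irr_apply_one_eq_cdeg hθ, h1, Nat.cast_one]))
  have h2 : cdeg θ ≠ 2 := fun h2 =>
    CfsgLib.PrimeDegrees.no_degree_two (by decide +kernel) altFive_perfect hθ
      (by rw [irr_apply_one_eq_cdeg hθ, h2, Nat.cast_ofNat])
  have hle : cdeg θ ^ 2 ≤ 60 :=
    card_altFive ▸ (Nat.le_mul_of_pos_right _ Nat.card_pos).trans (cdeg_sq_mul_card_center_le hθ)
  have key : ∀ d ∈ List.range 8, d ∣ 60 → d ≠ 1 → d ≠ 2 → d ∈ [3, 4, 5, 6] := by decide
  exact key _ (List.mem_range.2 (by nlinarith)) hd h1 h2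

/-- The nontrivial characters: four of them, their squared degrees adding up to 59. -/
theorem altFive_sums : ∃ s : Finset (A5 → ℂ), s.card = 4 ∧
    (∀ θ ∈ s, cdeg θ ∈ [3, 4, 5, 6]) ∧ ∑ θ ∈ s, cdeg θ ^ 2 = 59 ∧
    ∀ θ : A5 → ℂ, Cfsg.IsIrrCharacter A5 θ → θ ≠ (fun _ => 1) → θ ∈ s := by
  classical
  refine ⟨(irrFinset A5).erase fun _ => 1, ?_, fun θ hθ => ?_, ?_, fun θ hθ h => Finset.mem_erase.2 ⟨h, mem_irrFinset.2 hθ⟩⟩
  · rw [Finset.card_erase_of_mem (mem_irrFinset.2 isIrrCharacter_one)]
    have h : (irrFinset A5).card = Nat.card (Cfsg.IrrCharacter A5) := by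
      rw [← Nat.card_eq_finsetCard]
      exact Nat.card_congr (Equiv.subtypeEquivRight fun χ => mem_irrFinset)
    rw [h, card_irr_eq_card_conjClasses, Nat.card_eq_fintype_card]
    decide +kernel
  · obtain ⟨h1, h2⟩ := Finset.mem_erase.1 hθ
    exact altFive_degree_mem (mem_irrFinset.1 h2) h1
  · have h := sum_degree_sq (G := A5)
    rw [← Finset.add_sum_erase _ _ (mem_irrFinset.2 isIrrCharacter_one), card_altFive,
      Finset.sum_congr rfl (fun θ hθ => by
        rw [irr_apply_one_eq_cdeg (mem_irrFinset.1 (Finset.mem_of_mem_erase hθ))])] at h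
    have h' : ((1 + ∑ θ ∈ (irrFinset A5).erase (fun _ => 1), cdeg θ ^ 2 : ℕ) : ℂ) = (60 : ℕ) := by
      push_cast
      simpa using h
    have := Nat.cast_injective h'
    omega

/-- Multiplication by two on five points conjugates the standard five-cycle to its square. -/
def double : Perm (Fin 5) where
  toFun i := 2 * i
  invFun i := 3 * i
  left_inv := by decide
  right_inv := by decide

/-- The standard five-cycle. -/
def cyc : A5 := ⟨finRotate 5, Equiv.Perm.mem_alternatingGroup.2 (by decide +kernel)⟩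

/-- A character of degree three takes different values at the two classes of five-cycles. -/
theorem altFive_moved : ∃ θ : A5 → ℂ, Cfsg.IsIrrCharacter A5 θ ∧ θ 1 = (3 : ℕ) ∧ θ cyc ≠ θ (cyc * cyc) := by
  classical
  have hn : ¬ IsConj cyc (cyc * cyc) := by
    rw [isConj_iff]
    decide +kernel
  rw [isConj_iff_irr_eq] at hn
  push Not at hn
  obtain ⟨θ, hθ, hne⟩ := hn
  refine ⟨θ, hθ, ?_, hne⟩
  set θ' : A5 → ℂ := fun a => θ (MulAut.conjNormal double a) with hθ'
  have hi' : Cfsg.IsIrrCharacter A5 θ' :=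
    IsIrrCharacter.comp_surjective hθ (MulAut.conjNormal double).toMonoidHom (MulAut.conjNormal double).surjective
  have hd' : cdeg θ' = cdeg θ := cdeg_eq_of_apply_one (by simp [hθ'])
  have hval : θ' cyc = θ (cyc * cyc) :=
    congrArg θ (Subtype.ext (by rw [MulAut.conjNormal_apply]; decide +kernel))
  have hne' : θ' ≠ θ := fun h => hne (by rw [← hval, h])
  have h1 : θ ≠ fun _ => 1 := fun h => hne (by rw [h])
  have h1' : θ' ≠ fun _ => 1 := fun h => h1 (by
    funext a
    have := congrFun h ((MulAut.conjNormal double).symm a)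
    simpa [hθ'] using this)
  obtain ⟨s, hs, hd, hsum, hall⟩ := altFive_sums
  have hm := hall θ hθ h1
  have hm' : θ' ∈ s.erase θ := Finset.mem_erase.2 ⟨hne', hall θ' hi' h1'⟩
  obtain ⟨a, b, hab, ht⟩ := Finset.card_eq_two.1 (show ((s.erase θ).erase θ').card = 2 by
    rw [Finset.card_erase_of_mem hm', Finset.card_erase_of_mem hm, hs])
  rw [← Finset.add_sum_erase _ _ hm, ← Finset.add_sum_erase _ _ hm', ht, Finset.sum_pair hab, hd'] at hsum
  have hmem : ∀ x ∈ ({a, b} : Finset (A5 → ℂ)), cdeg x ∈ [3, 4, 5, 6] := fun x hx =>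
    hd x (Finset.mem_of_mem_erase (Finset.mem_of_mem_erase (ht ▸ hx)))
  have key : ∀ d ∈ [3, 4, 5, 6], ∀ u ∈ [3, 4, 5, 6], ∀ v ∈ [3, 4, 5, 6],
      d ^ 2 + (d ^ 2 + (u ^ 2 + v ^ 2)) = 59 → d = 3 := by decide
  rw [irr_apply_one_eq_cdeg hθ, key _ (hd θ hm) _ (hmem a (by simp)) _ (hmem b (by simp)) hsum]

theorem three_mem_charDegrees_altFive : 3 ∈ Cfsg.charDegrees A5 := by
  obtain ⟨θ, hθ, h3, -⟩ := altFive_moved
  exact mem_charDegrees hθ h3

/-- Two and three are joined in the symmetric group of degree five. -/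
theorem six_mem_charDegrees_symFive : 6 ∈ Cfsg.charDegrees (Perm (Fin 5)) := by
  classical
  obtain ⟨θ, hθ, h3, hne⟩ := altFive_moved
  have hind := IsCharacter.indFun (G := Perm (Fin 5)) (IsIrrCharacter.isCharacter hθ)
  obtain ⟨χ, hχ, hc⟩ := IsCharacter.exists_constituent hind fun h0 => by
    have h1 := congrFun h0 1
    rw [indFun_one, Pi.zero_apply, h3, alternatingGroup.index_eq_two] at h1
    norm_num at h1
  have hc' : Cfsg.classInner (fun n : A5 => χ n) θ ≠ 0 := fun h0 => hc (by
    rw [classInner_indFun θ (IsIrrCharacter.isClassFunction hχ), ← classInner_conj, h0, map_zero])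
  obtain ⟨k, hk, hk1⟩ := exists_degree_ratio hχ hθ hc'
  rw [alternatingGroup.index_eq_two, Nat.dvd_prime Nat.prime_two] at hk
  rcases hk with rfl | rfl
  · exfalso
    have h := IsCharacter.eq_of_constituent (IsCharacter.comp (IsIrrCharacter.isCharacter hχ) (Subgroup.subtype A5))
      hθ hc' (by simpa using hk1)
    have hconj : ((cyc * cyc : A5) : Perm (Fin 5)) = double * (cyc : Perm (Fin 5)) * double⁻¹ := by decide +kernel
    refine hne ?_
    rw [← congrFun h cyc, ← congrFun h (cyc * cyc)]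
    show χ (cyc : Perm (Fin 5)) = χ ((cyc * cyc : A5) : Perm (Fin 5))
    rw [hconj, IsIrrCharacter.isClassFunction hχ _ _]
  · exact mem_charDegrees hχ (by rw [hk1, h3]; norm_num)

end CfsgLib.SmallDegreeGraph
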