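import Cfsg.Agent.SmallDegreeGraph.Tools
import Cfsg.Agent.SmallDegreeGraph.SymFive
import Cfsg.Agent.RadFree.Degree
import Cfsg.Agent.Char.Products
import Cfsg.Agent.Classical.SmallPSL
import Cfsg.Agent.S0494
import Cfsg.Agent.S0497
import Cfsg.Agent.S4774
import Mathlib.GroupTheory.Transfer

/-!
# Groups with the order and the degree graph of the alternating group of degree six

A group of order 360 which is neither simple nor solvable has six Sylow 5-subgroups, and the
kernel of the action on them leaves `S₅` or `A₅` as factor group; then two and three are joined or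
two and five are not.
-/

set_option autoImplicit false
set_option linter.style.haveILetI false

namespace CfsgLib.SmallDegreeGraph

open CfsgLib.Char Subgroup

universe u v

/-- A group whose order no order of a simple group divides is solvable. -/
theorem solvable_of_orders {m : ℕ} (G : Type u) [Group G] [Finite G] (hG : Nat.card G = m) (hm : m < 6000)
    (h : ∀ k ∈ simpleOrders, ¬ k ∣ m) : Group.IsSolvable G := by
  by_contra hns
  exact h m (simple_of_not_solvable m G hG hm (fun k hk hd => (h k hk hd).elim) hns).2.2 dvd_rfl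

/-- A self-centralising normaliser of a Sylow subgroup of prime order gives solvability. -/
theorem solvable_of_burnside {p m : ℕ} [hp : Fact p.Prime] {G : Type u} [Group G] [Finite G] (P : Sylow p G)
    (hP : Nat.card (P : Subgroup G) = p) (hN : normalizer (P : Set G) ≤ centralizer ((P : Subgroup G) : Set G))
    (hG : Nat.card G = p * m) (hm : m < 6000) (h : ∀ k ∈ simpleOrders, ¬ k ∣ m) : Group.IsSolvable G := by
  haveI : IsMulCommutative (P : Subgroup G) :=
    ⟨⟨fun a b => Subtype.ext (hN (le_normalizer b.2) a a.2)⟩⟩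
  have hc := (MonoidHom.ker_transferSylow_isComplement' P hN).card_mul
  rw [hP, hG, mul_comm, Nat.mul_right_inj hp.out.ne_zero] at hc
  haveI := solvable_of_orders _ hc hm h
  haveI : Group.IsSolvable (P : Subgroup G) := by
    letI : CommGroup (P : Subgroup G) :=
      { (inferInstance : Group (P : Subgroup G)) with mul_comm := ‹IsMulCommutative (P : Subgroup G)›.is_comm.comm }
    infer_instance
  exact Group.isSolvable_of_ker_le_range (MonoidHom.transferSylow P hN).ker.subtype (MonoidHom.transferSylow P hN)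
    (by rw [Subgroup.range_subtype])

section three_sixty

variable {G : Type u} [Group G] [Finite G]

theorem solvable_of_thirty_six (hc : Nat.card G = 360) (N : Subgroup G) [N.Normal] (hN1 : N ≠ ⊥) (hN2 : N ≠ ⊤)
    (h36 : Nat.card (Sylow 5 G) = 36) : Group.IsSolvable G := by
  haveI : Fact (Nat.Prime 5) := ⟨Nat.prime_five⟩
  have hM : ∀ P : Sylow 5 G, Nat.card (normalizer (P : Set G)) = 10 := fun P => by
    have h := (normalizer (P : Set G)).card_mul_index
    rw [← P.card_eq_index_normalizer, h36, hc] at h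
    omega
  by_cases h5 : 5 ∣ Nat.card N
  · obtain ⟨R⟩ : Nonempty (Sylow 5 N) := inferInstance
    have hR := card_sylow_eq_prime (G := N) h5
      (fun hd => absurd (hd.trans (hc ▸ N.card_subgroup_dvd_card)) (by norm_num)) R
    obtain ⟨P, hP⟩ := (R.2.map N.subtype).exists_le_sylow
    have heq : (R : Subgroup N).map N.subtype = (P : Subgroup G) := eq_of_le_of_card_ge hP (by
      rw [card_map_of_injective N.subtype_injective, hR,
        card_sylow_eq_prime (by rw [hc]; norm_num) (by rw [hc]; norm_num) P])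
    have hsup := R.normalizer_sup_eq_top
    rw [heq, Sylow.coe_coe] at hsup
    have hmap : (normalizer (P : Set G)).map (QuotientGroup.mk' N) = ⊤ := by
      have h := congrArg (Subgroup.map (QuotientGroup.mk' N)) hsup
      rwa [Subgroup.map_sup, (Subgroup.map_eq_bot_iff _).2 (QuotientGroup.ker_mk' N).ge, sup_bot_eq,
        Subgroup.map_top_of_surjective _ (QuotientGroup.mk'_surjective N)] at h
    have hd : Nat.card (G ⧸ N) ∣ 10 := by
      rw [← Subgroup.card_top (G := G ⧸ N), ← hmap, ← hM P]
      exact Subgroup.card_map_dvd _ _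
    have hmul : Nat.card (G ⧸ N) * Nat.card N = 360 := by rw [← hc, N.card_eq_card_quotient_mul_card_subgroup]
    -- the normaliser in `N`
    have hQ1 : Nat.card (G ⧸ N) ≠ 1 := fun h1 =>
      hN2 (N.eq_top_of_card_eq (by rw [hc]; rw [h1, one_mul] at hmul; exact hmul))
    have hN5 : Nat.card (normalizer (P : Set G) ⊓ N : Subgroup G) = Nat.card N / 36 := by
      have h := (N.subgroupOf (normalizer (P : Set G))).card_mul_index
      have hi : (N.subgroupOf (normalizer (P : Set G))).index = Nat.card (G ⧸ N) := by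
        show N.relIndex _ = _
        rw [← relIndex_sup_left, sup_comm, hsup, relIndex_top_right, index_eq_card]
      rw [hi, hM P] at h
      have hcard : Nat.card (N.subgroupOf (normalizer (P : Set G))) =
          Nat.card (normalizer (P : Set G) ⊓ N : Subgroup G) := by
        rw [← card_map_of_injective (normalizer (P : Set G)).subtype_injective, subgroupOf_map_subtype, inf_comm]
      rw [hcard] at h
      refine (Nat.div_eq_of_eq_mul_left (by norm_num) ?_).symm
      have : Nat.card N * Nat.card (G ⧸ N) =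
          Nat.card (normalizer (P : Set G) ⊓ N : Subgroup G) * 36 * Nat.card (G ⧸ N) := by
        rw [mul_comm, hmul, mul_right_comm, h]; rfl
      exact Nat.eq_of_mul_eq_mul_right Nat.card_pos this
    have hPle : (P : Subgroup G) ≤ normalizer (P : Set G) ⊓ N := le_inf le_normalizer (heq ▸ map_subtype_le _)
    have hPc : Nat.card (P : Subgroup G) = 5 := by rw [← heq, card_map_of_injective N.subtype_injective, hR]
    have h5' : 5 ∣ Nat.card N / 36 := by
      have h := card_dvd_of_le hPle
      rwa [hPc, hN5] at h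
    have hcases : Nat.card (G ⧸ N) = 2 ∧ Nat.card N = 180 := by
      have hdv : Nat.card (G ⧸ N) ∈ Nat.divisors 10 := Nat.mem_divisors.2 ⟨hd, by norm_num⟩
      have key : ∀ q ∈ Nat.divisors 10, q ≠ 1 → 5 ∣ 360 / q / 36 → q = 2 := by decide
      have hN' : Nat.card N = 360 / Nat.card (G ⧸ N) := by rw [← hmul, Nat.mul_div_cancel_left _ Nat.card_pos]
      have := key _ hdv hQ1 (hN' ▸ h5')
      exact ⟨this, by rw [hN', this]⟩
    haveI : Group.IsSolvable (G ⧸ N) := solvable_of_orders _ hcases.1 (by norm_num) (by decide)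
    have hMN : normalizer (P : Set G) ⊓ N = (P : Subgroup G) :=
      (eq_of_le_of_card_ge hPle (by rw [hN5, hcases.2, hPc])).symm
    haveI : IsCyclic (R : Subgroup N) := isCyclic_of_prime_card hR
    haveI : Group.IsSolvable N := solvable_of_burnside R hR (fun x hx => mem_centralizer_iff.2 fun r hr => by
      have hxR : x ∈ (R : Subgroup N) := by
        have hxM : (x : G) ∈ normalizer (P : Set G) := by
          rw [← Sylow.coe_coe P, ← heq]
          exact le_normalizer_map N.subtype (mem_map_of_mem _ hx)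
        have : (x : G) ∈ (R : Subgroup N).map N.subtype := heq.symm ▸ hMN.le ⟨hxM, x.2⟩
        obtain ⟨y, hy, hyx⟩ := this
        rwa [← Subtype.ext hyx]
      exact congrArg Subtype.val
        ((IsCyclic.commGroup (α := (R : Subgroup N))).mul_comm ⟨r, hr⟩ ⟨x, hxR⟩))
      (m := 36) hcases.2 (by norm_num) (by decide)
    exact Group.isSolvable_of_ker_le_range N.subtype (QuotientGroup.mk' N)
      (by rw [QuotientGroup.ker_mk', Subgroup.range_subtype])
  obtain ⟨P⟩ : Nonempty (Sylow 5 G) := inferInstance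
  have hPc := card_sylow_eq_prime (by rw [hc]; norm_num) (by rw [hc]; norm_num) P
  have hle : N ≤ centralizer ((P : Subgroup G) : Set G) := le_centralizer_of_free P.2
    (fun x _ => by rw [normalizer_eq_top]; exact mem_top x) h5
    ((free_of_freeB (by norm_num) (by decide +kernel : freeB 5 360 [] = true)).of_dvd (hc ▸ N.card_subgroup_dvd_card))
  haveI : IsCyclic (P : Subgroup G) := isCyclic_of_prime_card hPc
  have hPC : (P : Subgroup G) ≤ centralizer ((P : Subgroup G) : Set G) := fun x hx => mem_centralizer_iff.2 fun r hr =>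
    congrArg Subtype.val ((IsCyclic.commGroup (α := (P : Subgroup G))).mul_comm ⟨r, hr⟩ ⟨x, hx⟩)
  have hCM : centralizer ((P : Subgroup G) : Set G) ≤ normalizer (P : Set G) := centralizer_le_normalizer _
  refine solvable_of_burnside P hPc ?_ (m := 72) hc (by norm_num) (by decide)
  refine (eq_of_le_of_card_ge hCM ?_).ge
  rw [hM P]
  refine Nat.le_of_dvd Nat.card_pos (Nat.Coprime.mul_dvd_of_dvd_of_dvd (m := 5) (n := 2) (by norm_num)
    ((dvd_of_eq hPc.symm).trans (card_dvd_of_le hPC)) ?_)
  have h2 : Nat.card N = 2 := by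
    have hd : Nat.card N ∈ Nat.divisors 10 :=
      Nat.mem_divisors.2 ⟨hM P ▸ card_dvd_of_le (hle.trans hCM), by norm_num⟩
    have key : ∀ n ∈ Nat.divisors 10, ¬ 5 ∣ n → n = 1 ∨ n = 2 := by decide
    exact (key _ hd h5).resolve_left fun h1 => hN1 (eq_bot_of_card_eq _ h1)
  exact h2 ▸ card_dvd_of_le hle

/-- A group of order 360 mapping onto `A₅` with a kernel of order six. -/
theorem false_of_kernel_six (hc : Nat.card G = 360) (h6 : ∀ d ∈ Cfsg.charDegrees G, ¬ 6 ∣ d)
    (h10 : ∃ d ∈ Cfsg.charDegrees G, 10 ∣ d) (f : G →* alternatingGroup (Fin 5)) (hf : Function.Surjective f) :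
    False := by
  classical
  haveI : Fact (Nat.Prime 5) := ⟨Nat.prime_five⟩
  haveI := alternatingGroup.isSimpleGroup (α := Fin 5) (by simp)
  have hK : Nat.card f.ker = 6 := by
    have h := f.ker.card_mul_index
    rw [Subgroup.index_ker, MonoidHom.range_eq_top.2 hf, Subgroup.card_top, card_altFive, hc] at h
    omega
  have h5 : ¬ 5 ∣ Nat.card f.ker := by rw [hK]; norm_num
  obtain ⟨P⟩ : Nonempty (Sylow 5 G) := inferInstance
  set C := centralizer (f.ker : Set G)
  haveI : C.Normal := Subgroup.normal_centralizer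
  have hPC : (P : Subgroup G) ≤ C := fun x hx => mem_centralizer_iff.2 fun z hz =>
    (mem_centralizer_iff.1 (le_centralizer_of_free P.2 (fun x _ => by rw [normalizer_eq_top]; exact mem_top x) h5
      ((free_of_freeB (by norm_num) (by decide +kernel : freeB 5 360 [] = true)).of_dvd
        (hc ▸ f.ker.card_subgroup_dvd_card)) hz) x hx).symm
  have htop : C.map f = ⊤ := by
    refine ((inferInstance : C.Normal).map f hf).eq_bot_or_eq_top.resolve_left fun h => h5 ?_
    refine (dvd_of_eq ?_).trans (card_dvd_of_le (hPC.trans ((Subgroup.map_eq_bot_iff C).1 h)))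
    exact (card_sylow_eq_prime (by rw [hc]; norm_num) (by rw [hc]; norm_num) P).symm
  by_cases hab : ∀ a ∈ f.ker, ∀ b ∈ f.ker, a * b = b * a
  · have hKC : f.ker ≤ C := fun a ha => mem_centralizer_iff.2 fun b hb => hab b hb a ha
    have hCtop : C = ⊤ := by
      rw [← sup_eq_left.2 hKC, ← comap_map_eq, htop, comap_top]
    have hKZ : f.ker ≤ center G := fun a ha => mem_center_iff.2 fun g => by
      exact (mem_centralizer_iff.1 (hCtop ▸ mem_top g : g ∈ C) a ha).symm
    obtain ⟨d, hd, h10d⟩ := h10
    obtain ⟨χ, hχ, h1⟩ := exists_of_mem_charDegrees hd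
    have hle := cdeg_sq_le_index_center hχ
    have hi : (center G).index ≤ 60 := by
      refine Nat.le_of_dvd (by norm_num) ((index_dvd_of_le hKZ).trans (dvd_of_eq ?_))
      rw [Subgroup.index_ker, MonoidHom.range_eq_top.2 hf, Subgroup.card_top, card_altFive]
    have hcd : cdeg χ = d := by
      rw [cdeg, h1, Complex.natCast_re, Nat.floor_natCast]
    obtain ⟨k, rfl⟩ := h10d
    have hk : 0 < cdeg χ := cdeg_pos hχ
    rw [hcd] at hle hk
    rw [mul_pow] at hle
    have hk1 : 1 ≤ k ^ 2 := Nat.one_le_pow _ _ (by omega)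
    omega
  push Not at hab
  obtain ⟨a, ha, b, hb, hne⟩ := hab
  set q : f.ker →* G ⧸ C := (QuotientGroup.mk' C).comp f.ker.subtype
  have hq : q.ker ≤ center f.ker := fun z hz => mem_center_iff.2 fun w => Subtype.ext
    (mem_centralizer_iff.1 ((QuotientGroup.eq_one_iff (z : G)).1 hz) w w.2)
  have hncyc : ¬ IsCyclic (G ⧸ C) := fun hcyc => hne (congrArg Subtype.val
    ((q.isMulCommutative_of_isCyclic_of_ker_le_center hq).is_comm.comm ⟨a, ha⟩ ⟨b, hb⟩))
  have hqs : Function.Surjective q := by
    intro x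
    obtain ⟨g, rfl⟩ := QuotientGroup.mk'_surjective C x
    obtain ⟨c, hcC, hcg⟩ : f g ∈ C.map f := htop ▸ mem_top _
    refine ⟨⟨g * c⁻¹, by rw [MonoidHom.mem_ker, map_mul, map_inv, hcg, mul_inv_cancel]⟩, ?_⟩
    show QuotientGroup.mk' C (g * c⁻¹) = _
    rw [map_mul, map_inv, show QuotientGroup.mk' C c = 1 from (QuotientGroup.eq_one_iff c).2 hcC, inv_one, mul_one]
  have hQd : Nat.card (G ⧸ C) ∈ Nat.divisors 6 := Nat.mem_divisors.2 ⟨hK ▸ card_dvd_of_surjective q hqs, by norm_num⟩
  have hQ : Nat.card (G ⧸ C) = 6 := by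
    have key : ∀ n ∈ Nat.divisors 6, n = 1 ∨ n.Prime ∨ n = 6 := by decide
    rcases key _ hQd with h | h | h
    · haveI := (Nat.card_eq_one_iff_unique.1 h).1
      exact (hncyc inferInstance).elim
    · haveI := Fact.mk h
      exact (hncyc (isCyclic_of_prime_card rfl)).elim
    · exact h
  obtain ⟨ψ, hψ, hψ2⟩ : ∃ ψ, Cfsg.IsIrrCharacter (G ⧸ C) ψ ∧ ψ 1 = (2 : ℕ) := by
    by_contra! hall
    have hone : ∀ ψ, Cfsg.IsIrrCharacter (G ⧸ C) ψ → ψ 1 = 1 := by
      intro ψ hψ
      have h := hQ ▸ (Nat.le_mul_of_pos_right _ Nat.card_pos).trans (cdeg_sq_mul_card_center_le hψ)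
      have h0 := cdeg_pos hψ
      have hne2 : cdeg ψ ≠ 2 := fun h2 => hall ψ hψ (by rw [irr_apply_one_eq_cdeg hψ, h2])
      have : cdeg ψ = 1 := by
        have : cdeg ψ < 3 := by nlinarith
        omega
      rw [irr_apply_one_eq_cdeg hψ, this, Nat.cast_one]
    have hcomm := abelian_iff_degree_one.2 hone
    obtain ⟨x, hx⟩ := exists_prime_orderOf_dvd_card' (G := G ⧸ C) (hp := ⟨Nat.prime_two⟩) 2 (by rw [hQ]; norm_num)
    obtain ⟨y, hy⟩ := exists_prime_orderOf_dvd_card' (G := G ⧸ C) (hp := ⟨Nat.prime_three⟩) 3 (by rw [hQ]; norm_num)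
    refine hncyc (isCyclic_of_orderOf_eq_card (x * y) ?_)
    rw [Commute.orderOf_mul_eq_mul_orderOf_of_coprime (hcomm x y) (by rw [hx, hy]; norm_num), hx, hy, hQ]
  obtain ⟨θ, hθ, hθ3⟩ := exists_of_mem_charDegrees three_mem_charDegrees_altFive
  have hprod := isIrrCharacter_prod hψ hθ
  have hsurj : Function.Surjective ((QuotientGroup.mk' C).prod f) := by
    rintro ⟨x, y⟩
    obtain ⟨g, rfl⟩ := QuotientGroup.mk'_surjective C x
    obtain ⟨c, hcC, hcg⟩ : (f g)⁻¹ * y ∈ C.map f := htop ▸ mem_top _
    refine ⟨g * c, Prod.ext ?_ ?_⟩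
    · show QuotientGroup.mk' C (g * c) = _
      rw [map_mul, show QuotientGroup.mk' C c = 1 from (QuotientGroup.eq_one_iff c).2 hcC, mul_one]
    · show f (g * c) = y
      rw [map_mul, hcg, mul_inv_cancel_left]
  refine h6 6 (charDegrees_subset_of_surjective _ hsurj (mem_charDegrees hprod ?_)) dvd_rfl
  simp [hψ2, hθ3]
  norm_num

/-- Only simple groups of order 360 join two and five but not two and three. -/
theorem simple_three_sixty (hc : Nat.card G = 360) (h5 : 5 ∈ Cfsg.degreePrimes G)
    (h6 : ∀ d ∈ Cfsg.charDegrees G, ¬ 6 ∣ d) (h10 : ∃ d ∈ Cfsg.charDegrees G, 10 ∣ d) : IsSimpleGroup G := by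
  classical
  by_contra hs
  haveI : Fact (Nat.Prime 5) := ⟨Nat.prime_five⟩
  have hns : ¬ Group.IsSolvable G := fun h => by
    rcases not_mem_of_solvable (p := 5) (q := 2) (a := 3) Nat.prime_two (by norm_num) (by norm_num) (by norm_num)
      (by norm_num) (by norm_num) (by decide +kernel) G hc h with h' | h'
    · exact h' h5
    · obtain ⟨d, hd, hdd⟩ := h10
      exact h' ⟨Nat.prime_two, d, hd, (by norm_num : 2 ∣ 10).trans hdd⟩
  haveI : Nontrivial G := Finite.one_lt_card_iff_nontrivial.1 (by rw [hc]; norm_num)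
  obtain ⟨N, hN, hN1, hN2⟩ : ∃ N : Subgroup G, N.Normal ∧ N ≠ ⊥ ∧ N ≠ ⊤ := by
    by_contra! h'
    exact hs ⟨fun N hN => or_iff_not_imp_left.2 (h' N hN)⟩
  haveI := hN
  obtain ⟨P⟩ : Nonempty (Sylow 5 G) := inferInstance
  have hPc := card_sylow_eq_prime (p := 5) (G := G) (by rw [hc]; norm_num) (by rw [hc]; norm_num) P
  have hidx : (P : Subgroup G).index = 72 := by
    have h := (P : Subgroup G).card_mul_index
    rw [hPc, hc] at h
    omega
  have hk : Nat.card (Sylow 5 G) = 1 ∨ Nat.card (Sylow 5 G) = 6 ∨ Nat.card (Sylow 5 G) = 36 := by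
    have key : ∀ d ∈ Nat.divisors 72, d % 5 = 1 → d = 1 ∨ d = 6 ∨ d = 36 := by decide
    exact key _ (Nat.mem_divisors.2 ⟨hidx ▸ P.card_dvd_index, by norm_num⟩) (card_sylow_modEq_one 5 G)
  rcases hk with h1 | h6' | h36
  · haveI := (Nat.card_eq_one_iff_unique.1 h1).1
    exact not_mem_degreePrimes_of_pn (p := 5) (by rw [hc]; norm_num) (fun Q => Sylow.normal_of_subsingleton (P := Q)) h5
  swap
  · exact hns (solvable_of_thirty_six hc N hN1 hN2 h36)
  haveI := Fintype.ofFinite (Sylow 5 G)
  let e : Sylow 5 G ≃ Fin 6 := Fintype.equivFinOfCardEq (by rw [← Nat.card_eq_fintype_card, h6'])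
  set φ : G →* Equiv.Perm (Fin 6) := e.permCongrHom.toMonoidHom.comp (MulAction.toPermHom G (Sylow 5 G))
  have hM : Nat.card (normalizer (P : Set G)) = 60 := by
    have h := (normalizer (P : Set G)).card_mul_index
    rw [← P.card_eq_index_normalizer, h6', hc] at h
    omega
  have hKM : φ.ker ≤ normalizer (P : Set G) := fun k hk => by
    have hk' : MulAction.toPermHom G (Sylow 5 G) k = 1 :=
      e.permCongrHom.injective (by rw [map_one]; exact hk)
    exact Sylow.smul_eq_iff_mem_normalizer.1 (Equiv.Perm.congr_fun hk' P)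
  haveI : Group.IsSolvable φ.ker := by
    have hPM : (P : Subgroup G) ≤ normalizer (P : Set G) := le_normalizer
    have hP5 := (Nat.card_congr (subgroupOfEquivOfLe hPM).toEquiv).trans hPc
    haveI hPn : ((P : Subgroup G).subgroupOf (normalizer (P : Set G))).Normal := by
      rw [← Sylow.coe_coe P]
      infer_instance
    haveI := solvable_of_orders ((P : Subgroup G).subgroupOf (normalizer (P : Set G))) (m := 5) hP5
      (by norm_num) (by decide)
    haveI := solvable_of_orders (normalizer (P : Set G) ⧸ (P : Subgroup G).subgroupOf (normalizer (P : Set G)))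
      (m := 12) (by
        have h := ((P : Subgroup G).subgroupOf (normalizer (P : Set G))).card_eq_card_quotient_mul_card_subgroup
        rw [hM, hP5] at h
        omega) (by norm_num) (by decide)
    haveI : Group.IsSolvable (normalizer (P : Set G)) := Group.isSolvable_of_ker_le_range
      ((P : Subgroup G).subgroupOf (normalizer (P : Set G))).subtype
      (QuotientGroup.mk' ((P : Subgroup G).subgroupOf (normalizer (P : Set G))))
      (by rw [QuotientGroup.ker_mk', Subgroup.range_subtype])
    exact Group.isSolvable_of_isSolvable_injective (Subgroup.inclusion_injective hKM)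
  have hI : ¬ Group.IsSolvable φ.range := fun h => hns (Group.isSolvable_of_ker_le_range φ.ker.subtype φ.rangeRestrict
    (by rw [MonoidHom.ker_rangeRestrict, Subgroup.range_subtype]))
  have hcard : Nat.card φ.ker * Nat.card φ.range = 360 := by rw [← Subgroup.index_ker, φ.ker.card_mul_index, hc]
  have h60 : 60 ∣ Nat.card φ.range := by
    by_contra h60
    refine hI (solvable_of_orders _ rfl ?_ fun k hk hd => h60 ?_)
    · have := Nat.le_of_dvd (by norm_num) (Dvd.intro_left _ hcard)
      omega
    · have key : ∀ k ∈ simpleOrders, k ∣ 360 → 60 ∣ k := by decide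
      exact (key k hk (hd.trans (Dvd.intro_left _ hcard))).trans hd
  obtain ⟨c, hc'⟩ := h60
  have hcases : c = 1 ∨ c = 2 ∨ c = 3 ∨ c = 6 := by
    have hd : c ∈ Nat.divisors 6 := Nat.mem_divisors.2 ⟨⟨Nat.card φ.ker, by rw [hc'] at hcard; nlinarith⟩, by norm_num⟩
    have key : ∀ c ∈ Nat.divisors 6, c = 1 ∨ c = 2 ∨ c = 3 ∨ c = 6 := by decide
    exact key c hd
  have hA6 : Nat.card (alternatingGroup (Fin 6)) = 360 := by
    rw [nat_card_alternatingGroup, Nat.card_eq_fintype_card, Fintype.card_fin]
    rfl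
  have hI6 : φ.range.index * Nat.card φ.range = 720 := by
    rw [Subgroup.index_mul_card, Nat.card_perm, Nat.card_fin]
    rfl
  rcases hcases with rfl | rfl | rfl | rfl
  · haveI := (simple_of_not_solvable 60 φ.range hc' (by norm_num) (by decide) hI).1
    obtain ⟨j⟩ := Cfsg.Agent.S0494.result (G := φ.range) hc'
    exact false_of_kernel_six hc h6 h10 (j.toMonoidHom.comp φ.rangeRestrict)
      (j.surjective.comp φ.rangeRestrict_surjective)
  · obtain ⟨j⟩ := CfsgLib.RadFree.iso_sym_five φ.range hc'
    exact h6 6 (charDegrees_subset_of_surjective (j.toMonoidHom.comp φ.rangeRestrict)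
      (j.surjective.comp φ.rangeRestrict_surjective) six_mem_charDegrees_symFive) dvd_rfl
  · rw [hc'] at hI6
    have hi : φ.range.index = 4 := by omega
    rcases CfsgLib.RadFree.eq_alternating_or_top (by norm_num) φ.range (by rw [hi]; decide) with h | h <;> rw [h] at hc'
    · omega
    · rw [Subgroup.card_top, Nat.card_perm, Nat.card_fin] at hc'
      norm_num [Nat.factorial] at hc'
  · rw [hc'] at hI6
    have hi : φ.range.index = 2 := by omega
    rcases CfsgLib.RadFree.eq_alternating_or_top (by norm_num) φ.range (by rw [hi]; decide) with h | h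
    · have hinj : Function.Injective φ := by
        rw [← MonoidHom.ker_eq_bot_iff]
        exact eq_bot_of_card_eq _ (by rw [hc'] at hcard; omega)
      haveI := alternatingGroup.isSimpleGroup (α := Fin 6) (by simp)
      exact hs ((MonoidHom.ofInjective hinj).trans (MulEquiv.subgroupCongr h)).isSimpleGroup
    · rw [h, Subgroup.card_top, Nat.card_perm, Nat.card_fin] at hc'
      norm_num [Nat.factorial] at hc'

end three_sixty

variable {S : Type v} [Group S] [Finite S] [IsSimpleGroup S] {G : Type u} [Group G] [Finite G]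

/-- A simple group of order 360. -/
theorem case_three_sixty (hS : Nat.card S = 360) (hc : Nat.card G = 360)
    (hV : Cfsg.degreePrimes G = Cfsg.degreePrimes S) (hE : Cfsg.degreeGraph G = Cfsg.degreeGraph S) :
    Nonempty (G ≃* S) := by
  haveI : Fact (Nat.Prime 3) := ⟨Nat.prime_three⟩
  letI := Fintype.ofFinite (GaloisField 3 2)
  have hF : Fintype.card (GaloisField 3 2) = 9 := by
    rw [← Nat.card_eq_fintype_card, GaloisField.card 3 2 (by norm_num)]; norm_num
  obtain ⟨a⟩ := Cfsg.Agent.S0497.result hS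
  obtain ⟨b⟩ := CfsgLib.Linear.Small.nonempty_psl_two_nine hF
  obtain ⟨hV9, hE9⟩ := Cfsg.Agent.S4774.result (GaloisField 3 2) 3 (by norm_num) 9 hF (by norm_num)
    (Or.inl ⟨a.trans b.symm⟩)
  have h5 : 5 ∈ Cfsg.degreePrimes G := by
    rw [hV, hV9]
    exact ⟨Nat.prime_five, by norm_num⟩
  have h6 : ∀ d ∈ Cfsg.charDegrees G, ¬ 6 ∣ d := fun d hd h => by
    have hadj : (Cfsg.degreeGraph G).Adj 2 3 := ⟨by norm_num, Nat.prime_two, Nat.prime_three, d, hd, h⟩
    rw [hE, hE9] at hadj
    norm_num at hadj
  have h10 : ∃ d ∈ Cfsg.charDegrees G, 10 ∣ d := by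
    have hadj : (Cfsg.degreeGraph G).Adj 2 5 := by
      rw [hE, hE9]
      norm_num [Nat.prime_five, Nat.prime_two]
    exact hadj.2.2.2
  haveI := simple_three_sixty hc h5 h6 h10
  obtain ⟨c⟩ := Cfsg.Agent.S0497.result (G := G) hc
  exact ⟨c.trans a.symm⟩

end CfsgLib.SmallDegreeGraph
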