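import Cfsg.Agent.SmallDegreeGraph.Tools
import Cfsg.Agent.Char.PermChar
import Cfsg.Agent.Char.Generalized
import Mathlib.GroupTheory.SpecificGroups.Alternating
import Mathlib.Data.Sym.Card

/-!
# Five and seven divide degrees of the alternating group of degree seven

The actions on points and on unordered pairs, with repetition, give virtual characters of norm one
and of degrees 14 and 15.
-/

set_option autoImplicit false
set_option linter.style.haveILetI false

namespace CfsgLib.SmallDegreeGraph

open CfsgLib.Char Equiv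

universe u

/-- A permutation character is a virtual character. -/
theorem isGeneralized_fixedBy {H : Type u} [Group H] [Finite H] (X : Type*) [MulAction H X] [Finite X] :
    Cfsg.IsGeneralizedCharacter H (fun h : H => (Nat.card (MulAction.fixedBy X h) : ℂ)) := by
  classical
  haveI := Fintype.ofFinite H
  haveI := Fintype.ofFinite (MulAction.orbitRel.Quotient H X)
  rw [fixedBy_eq_sum_orbits X]
  exact IsCharacter.isGeneralized (isCharacter_sum _ fun q _ => IsCharacter.indFun isCharacter_one)

local notation "A7" => alternatingGroup (Fin 7)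

/-- The number of fixed points. -/
def fixPts (x : A7) : ℤ := (Finset.univ.filter fun i => (x : Perm (Fin 7)) i = i).card

/-- The number of fixed unordered pairs. -/
def fixPairs (x : A7) : ℤ :=
  (Finset.univ.filter fun z : Sym2 (Fin 7) => Sym2.map (x : Perm (Fin 7)) z = z).card

set_option maxHeartbeats 4000000 in
theorem norm_sums : (∑ x : A7, ((fixPairs x - 2 * fixPts x) ^ 2,
    (fixPts x * fixPts x - fixPts x - fixPairs x + 1) ^ 2)) = ((2520 : ℤ), (2520 : ℤ)) := by
  decide +kernel

theorem isGeneralized_fixPts : Cfsg.IsGeneralizedCharacter A7 (fun x => (fixPts x : ℂ)) := by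
  classical
  have h := isGeneralized_fixedBy (H := A7) (Fin 7)
  convert h using 2 with x
  rw [fixPts, Int.cast_natCast, Nat.cast_inj, ← Fintype.card_subtype, ← Nat.card_eq_fintype_card]
  rfl

theorem isGeneralized_fixPairs : Cfsg.IsGeneralizedCharacter A7 (fun x => (fixPairs x : ℂ)) := by
  classical
  letI : MulAction A7 (Sym2 (Fin 7)) :=
    { smul := fun x z => Sym2.map (x : Perm (Fin 7)) z
      one_smul := fun z => by
        show Sym2.map (⇑(1 : Perm (Fin 7))) z = z
        rw [Perm.coe_one, Sym2.map_id]
        rfl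
      mul_smul := fun x y z => by
        show Sym2.map (⇑((x : Perm (Fin 7)) * (y : Perm (Fin 7)))) z = _
        rw [Perm.coe_mul, ← Sym2.map_map]
        rfl }
  have h := isGeneralized_fixedBy (H := A7) (Sym2 (Fin 7))
  convert h using 2 with x
  rw [fixPairs, Int.cast_natCast, Nat.cast_inj, ← Fintype.card_subtype, ← Nat.card_eq_fintype_card]
  rfl

theorem exists_irr_of_norm (ψ : A7 → ℤ) (hψ : Cfsg.IsGeneralizedCharacter A7 (fun x => (ψ x : ℂ)))
    (hn : ∑ x : A7, ψ x ^ 2 = 2520) (d : ℕ) (hd : ψ 1 = d) (hd0 : d ≠ 0) : d ∈ Cfsg.charDegrees A7 := by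
  classical
  have hA : Nat.card A7 = 2520 := by
    rw [nat_card_alternatingGroup, Nat.card_eq_fintype_card, Fintype.card_fin]
    rfl
  have h1 : Cfsg.classInner (fun x : A7 => (ψ x : ℂ)) (fun x => (ψ x : ℂ)) = 1 := by
    rw [classInner_def, hA]
    have hn' : ∑ x : A7, (ψ x : ℂ) ^ 2 = 2520 := by exact_mod_cast hn
    simp only [map_intCast, ← sq, hn']
    norm_num
  rcases IsGeneralized.isIrr_or_neg hψ h1 with h | h
  · exact mem_charDegrees h (show ((ψ 1 : ℂ)) = (d : ℂ) by rw [hd, Int.cast_natCast])
  · obtain ⟨n, -, hn'⟩ := IsIrrCharacter.exists_degree h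
    exfalso
    simp only [Pi.neg_apply, hd, Int.cast_natCast] at hn'
    have : ((d + n : ℕ) : ℂ) = 0 := by push_cast; linear_combination -hn'
    rw [Nat.cast_eq_zero] at this
    omega

theorem fourteen_mem : 14 ∈ Cfsg.charDegrees A7 := by
  refine exists_irr_of_norm (fun x => fixPairs x - 2 * fixPts x) ?_ ?_ 14 (by decide +kernel) (by norm_num)
  · have h := IsGeneralized.sub isGeneralized_fixPairs (IsGeneralized.zsmul isGeneralized_fixPts 2)
    convert h using 2 with x
    simp
  · have h := congrArg Prod.fst norm_sums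
    rwa [Prod.fst_sum] at h

theorem fifteen_mem : 15 ∈ Cfsg.charDegrees A7 := by
  refine exists_irr_of_norm (fun x => fixPts x * fixPts x - fixPts x - fixPairs x + 1) ?_ ?_ 15
    (by decide +kernel) (by norm_num)
  · have h := IsGeneralized.add (IsGeneralized.sub (IsGeneralized.sub
      (IsGeneralized.mul isGeneralized_fixPts isGeneralized_fixPts) isGeneralized_fixPts) isGeneralized_fixPairs)
      isGeneralized_one
    convert h using 2 with x
    simp
  · have h := congrArg Prod.snd norm_sums
    rwa [Prod.snd_sum] at h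

theorem five_seven_mem : 5 ∈ Cfsg.degreePrimes A7 ∧ 7 ∈ Cfsg.degreePrimes A7 :=
  ⟨⟨Nat.prime_five, 15, fifteen_mem, by norm_num⟩, ⟨by norm_num, 14, fourteen_mem, by norm_num⟩⟩

end CfsgLib.SmallDegreeGraph
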