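import Cfsg.Agent.SmallDegreeGraph.Tools
import Cfsg.Agent.SmallDegreeGraph.AltSeven
import Cfsg.Agent.S0984

/-!
# Groups with the order and the degree graph of the alternating group of degree seven

A group of order 2520 which is not simple has a normal Sylow subgroup for five or for seven.  The
one case where counting is not immediate is a normal subgroup of order 120 or 360 with six or 36
Sylow 5-subgroups: the Sylow 7-subgroup centralises too much of it.
-/

set_option autoImplicit false
set_option linter.style.haveILetI false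

namespace CfsgLib.SmallDegreeGraph

open Subgroup

universe u v

theorem free_five {n : ℕ} (hn : n ∣ 2520) : Free 5 n :=
  (free_of_freeB (by norm_num) (by decide +kernel : freeB 5 2520 [] = true)).of_dvd hn

theorem free_seven {n : ℕ} (hn : n ∣ 2520) (h8 : ¬ 8 ∣ n) : Free 7 n := fun q j hq hj hd h1 => by
  have h := mem_allowed_of_freeB (by norm_num) (by decide +kernel : freeB 7 2520 [8] = true) hq hj (hd.trans hn) h1
  rw [List.mem_singleton] at h
  exact h8 (h ▸ hd)

/-- Without the factor `c` of the simple orders the Sylow subgroup is normal. -/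
theorem pn_of_not_dvd_two {p c : ℕ} [Fact p.Prime] {G : Type u} [Group G] [Finite G] (hd : Nat.card G ∣ 2520)
    (hc : ¬ c ∣ Nat.card G) (hsq : ¬ p ^ 2 ∣ 2520) (hfree : Free p (Nat.card G))
    (hS : ∀ k ∈ simpleOrders, k ∣ 2520 → p ∣ k → c ∣ k) : PN p G := by
  by_cases hs : IsSimpleGroup G
  · haveI := hs
    by_cases hcm : IsMulCommutative G
    · exact fun P => ⟨fun x hx g => by rwa [hcm.is_comm.comm g x, mul_inv_cancel_right]⟩
    · refine pn_of_not_dvd fun hp => hc (hS _ (CfsgLib.ThirtySixForty.card_mem_of_lt hcm ?_) hd hp)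
      exact lt_of_le_of_lt (Nat.le_of_dvd (by norm_num) hd) (by norm_num)
  rcases pn_or_simple (p := p) (n := Nat.card G) (lt_of_le_of_lt (Nat.le_of_dvd (by norm_num) hd) (by norm_num))
    Nat.card_pos.ne' (fun h => hsq (h.trans hd)) hfree
    (fun k hk hkd hpk => absurd ((hS k hk (hkd.trans hd) hpk).trans hkd) hc) _ G rfl dvd_rfl with h | ⟨-, h⟩
  · exact h
  · exact absurd h hs

theorem pn_five_of {G : Type u} [Group G] [Finite G] (hd : Nat.card G ∣ 2520) (h : ¬ 60 ∣ Nat.card G) :
    haveI : Fact (Nat.Prime 5) := ⟨Nat.prime_five⟩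
    PN 5 G :=
  haveI : Fact (Nat.Prime 5) := ⟨Nat.prime_five⟩
  pn_of_not_dvd_two hd h (by norm_num) (free_five hd) (by decide)

theorem pn_seven_of {G : Type u} [Group G] [Finite G] (hd : Nat.card G ∣ 2520) (h : ¬ 8 ∣ Nat.card G) :
    PN 7 G :=
  haveI : Fact (Nat.Prime 7) := ⟨by norm_num⟩
  pn_of_not_dvd_two hd h (by norm_num) (free_seven hd h) (by decide)

/-- A normal subgroup of order 120 or 360 without normal Sylow 5-subgroup. -/
theorem pn_seven_of_normal {G : Type u} [Group G] [Finite G] (hd : Nat.card G ∣ 2520) (h7 : 7 ∣ Nat.card G)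
    (N : Subgroup G) [N.Normal] (hN : Nat.card N = 120 ∨ Nat.card N = 360) (h5 : ¬ PN 5 N) : PN 7 G := by
  classical
  haveI : Fact (Nat.Prime 5) := ⟨Nat.prime_five⟩
  haveI : Fact (Nat.Prime 7) := ⟨by norm_num⟩
  intro P
  have hP := card_sylow_eq_prime h7 (fun h => absurd (h.trans hd) (by norm_num)) P
  set C : Subgroup G := N ⊓ centralizer ((P : Subgroup G) : Set G) with hC
  have hPN : (P : Subgroup G) ≤ normalizer (N : Set G) := fun x _ => by rw [normalizer_eq_top]; exact mem_top x
  have hcop : (Nat.card (P : Subgroup G)).Coprime (Nat.card N) := by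
    rw [hP]
    rcases hN with h | h <;> rw [h] <;> norm_num
  haveI : Group.IsNilpotent (P : Subgroup G) := P.2.isNilpotent
  have hsolv : Group.IsSolvable (P : Subgroup G) ∨ Group.IsSolvable N := Or.inl inferInstance
  have hfull : ∀ q : ℕ, q = 3 ∨ q = 5 → q ^ (Nat.card N).factorization q ∣ Nat.card C := by
    intro q hq
    haveI hqf : Fact q.Prime := ⟨by rcases hq with rfl | rfl <;> norm_num⟩
    obtain ⟨T, hT⟩ := CfsgLib.CoprimeAct.exists_invariant_sylow hPN hcop hsolv q
    have hTc : Nat.card ((T : Subgroup N).map N.subtype) = q ^ (Nat.card N).factorization q := by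
      rw [card_map_of_injective N.subtype_injective, T.card_eq_multiplicity]
    rcases centralizes_or_power hqf.out (by rcases hq with rfl | rfl <;> norm_num) P.2 hT hTc with
      h | ⟨c, hca, -, h1⟩
    · rw [← hTc]
      exact card_dvd_of_le (le_inf (map_subtype_le _) h)
    · exfalso
      have hb : q ^ ((Nat.card N).factorization q - c) ∣ Nat.card N :=
        (pow_dvd_pow q (Nat.sub_le _ c)).trans (Nat.ordProj_dvd _ _)
      have hb' := hb.trans (card_subgroup_dvd_card N |>.trans hd)
      have h2 := mem_allowed_of_freeB (by norm_num) (by decide +kernel : freeB 7 2520 [8] = true) hqf.out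
        (by omega) hb' h1
      rw [List.mem_singleton] at h2
      have := (Nat.prime_dvd_prime_iff_eq hqf.out Nat.prime_two).1
        (hqf.out.dvd_of_dvd_pow (n := 3) (by
          rw [show (2 : ℕ) ^ 3 = 8 from rfl, ← h2]
          exact dvd_pow_self q (by omega)))
      omega
  have hlarge : Nat.card N / 8 ∣ Nat.card C := by
    have h3 := hfull 3 (Or.inl rfl)
    have h5' := hfull 5 (Or.inr rfl)
    rcases hN with h | h <;> rw [h] at h3 h5' ⊢
    · have e3 : (120 : ℕ).factorization 3 = 1 := by
        rw [show (120 : ℕ) = 3 ^ 1 * 40 by norm_num, Nat.factorization_mul (by norm_num) (by norm_num),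
          Finsupp.add_apply, Nat.prime_three.factorization_pow, Finsupp.single_eq_same,
          Nat.factorization_eq_zero_of_not_dvd (by norm_num)]
      have e5 : (120 : ℕ).factorization 5 = 1 := by
        rw [show (120 : ℕ) = 5 ^ 1 * 24 by norm_num, Nat.factorization_mul (by norm_num) (by norm_num),
          Finsupp.add_apply, Nat.prime_five.factorization_pow, Finsupp.single_eq_same,
          Nat.factorization_eq_zero_of_not_dvd (by norm_num)]
      rw [e3] at h3
      rw [e5] at h5'
      exact Nat.Coprime.mul_dvd_of_dvd_of_dvd (m := 3) (n := 5) (by norm_num) h3 h5'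
    · have e3 : (360 : ℕ).factorization 3 = 2 := by
        rw [show (360 : ℕ) = 3 ^ 2 * 40 by norm_num, Nat.factorization_mul (by norm_num) (by norm_num),
          Finsupp.add_apply, Nat.prime_three.factorization_pow, Finsupp.single_eq_same,
          Nat.factorization_eq_zero_of_not_dvd (by norm_num)]
      have e5 : (360 : ℕ).factorization 5 = 1 := by
        rw [show (360 : ℕ) = 5 ^ 1 * 72 by norm_num, Nat.factorization_mul (by norm_num) (by norm_num),
          Finsupp.add_apply, Nat.prime_five.factorization_pow, Finsupp.single_eq_same,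
          Nat.factorization_eq_zero_of_not_dvd (by norm_num)]
      rw [e3] at h3
      rw [e5] at h5'
      exact Nat.Coprime.mul_dvd_of_dvd_of_dvd (m := 3 ^ 2) (n := 5) (by norm_num) h3 h5'
  set M := normalizer ((P : Subgroup G) : Set G) with hM
  have hCM : C ≤ M := inf_le_right.trans (centralizer_le_normalizer _)
  have hPM : (P : Subgroup G) ≤ M := le_normalizer
  have hMidx : Nat.card M * Nat.card (Sylow 7 G) = Nat.card G := by
    rw [P.card_eq_index_normalizer]
    exact M.card_mul_index
  have hMbig : 7 * (Nat.card N / 8) ∣ Nat.card M :=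
    Nat.Coprime.mul_dvd_of_dvd_of_dvd (m := 7) (by rcases hN with h | h <;> rw [h] <;> norm_num)
      ((dvd_of_eq hP.symm).trans (card_dvd_of_le hPM)) (hlarge.trans (card_dvd_of_le hCM))
  have hk := card_sylow_modEq_one 7 G
  have hGd : Nat.card G ∈ Nat.divisors 2520 := Nat.mem_divisors.2 ⟨hd, by norm_num⟩
  have hkG : Nat.card (Sylow 7 G) * (7 * (Nat.card N / 8)) ∣ Nat.card G := by
    rw [← hMidx, mul_comm (Nat.card M)]
    exact Nat.mul_dvd_mul_left _ hMbig
  have hk' : Nat.card (Sylow 7 G) = 1 ∨ Nat.card (Sylow 7 G) = 8 := by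
    have hkd : Nat.card (Sylow 7 G) ∈ Nat.divisors 24 := by
      refine Nat.mem_divisors.2 ⟨?_, by norm_num⟩
      have h := hkG.trans hd
      rcases hN with h' | h' <;> rw [h'] at h
      · exact Nat.dvd_of_mul_dvd_mul_right (k := 105) (by norm_num) (by simpa using h)
      · exact (Nat.dvd_of_mul_dvd_mul_right (k := 315) (n := 8) (by norm_num) (by simpa using h)).trans (by norm_num)
    have key : ∀ k ∈ Nat.divisors 24, k % 7 = 1 → k = 1 ∨ k = 8 := by decide
    exact key _ hkd hk
  rcases hk' with h1 | h8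
  · haveI := (Nat.card_eq_one_iff_unique.1 h1).1
    exact Sylow.normal_of_subsingleton P
  exfalso
  -- the centraliser has odd order
  have hCcard : Nat.card C = Nat.card N / 8 := by
    rw [h8] at hMidx
    have hC1 : Nat.card C ∣ Nat.card N := card_dvd_of_le inf_le_left
    have hM1 : Nat.card M ∣ 315 := Nat.dvd_of_mul_dvd_mul_right (k := 8) (by norm_num) (hMidx ▸ hd)
    have hC2 := (card_dvd_of_le hCM).trans hM1
    refine Nat.dvd_antisymm ?_ hlarge
    rcases hN with h | h <;> rw [h] at hC1 ⊢
    · exact (Nat.dvd_gcd hC1 hC2).trans (by norm_num)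
    · exact (Nat.dvd_gcd hC1 hC2).trans (by norm_num)
  set C' := C.subgroupOf N with hC'
  have hC'card : Nat.card C' = Nat.card N / 8 :=
    (Nat.card_congr (subgroupOfEquivOfLe (inf_le_left : C ≤ N)).toEquiv).trans hCcard
  obtain ⟨R⟩ : Nonempty (Sylow 5 C') := inferInstance
  have hR : Nat.card (R : Subgroup C') = 5 := card_sylow_eq_prime (G := C')
    (by rw [hC'card]; rcases hN with h | h <;> rw [h] <;> norm_num)
    (by rw [hC'card]; rcases hN with h | h <;> rw [h] <;> norm_num) R
  have hRn : normalizer ((R : Subgroup C') : Set C') = ⊤ := by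
    haveI := pn_five_of (G := C') (hC'card ▸ (by rcases hN with h | h <;> rw [h] <;> norm_num))
      (by rw [hC'card]; rcases hN with h | h <;> rw [h] <;> norm_num) R
    exact normalizer_eq_top _
  obtain ⟨Q, hQ⟩ := (R.2.map C'.subtype).exists_le_sylow
  have heq : (R : Subgroup C').map C'.subtype = (Q : Subgroup N) := eq_of_le_of_card_ge hQ (by
    rw [card_map_of_injective C'.subtype_injective, hR, card_sylow_eq_prime (G := N)
      (by rcases hN with h | h <;> rw [h] <;> norm_num) (by rcases hN with h | h <;> rw [h] <;> norm_num) Q])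
  have hle : C' ≤ normalizer ((Q : Subgroup N) : Set N) := fun x hx => by
    rw [← heq]
    refine le_normalizer_map C'.subtype ⟨⟨x, hx⟩, ?_, rfl⟩
    rw [hRn]
    exact mem_top _
  have hn5 : Nat.card (Sylow 5 N) ∣ 8 := by
    rw [Q.card_eq_index_normalizer]
    refine (index_dvd_of_le hle).trans (dvd_of_eq ?_)
    have h := C'.card_mul_index
    rw [hC'card] at h
    rcases hN with h' | h' <;> rw [h'] at h <;> omega
  have h1 : Nat.card (Sylow 5 N) = 1 := by
    have key : ∀ k ∈ Nat.divisors 8, k % 5 = 1 → k = 1 := by decide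
    exact key _ (Nat.mem_divisors.2 ⟨hn5, by norm_num⟩) (card_sylow_modEq_one 5 N)
  haveI := (Nat.card_eq_one_iff_unique.1 h1).1
  exact h5 fun Q' => Sylow.normal_of_subsingleton Q'

/-- Five or seven has a normal Sylow subgroup in a group of order dividing 2520 other than `A₇`. -/
theorem pn_five_or_seven : ∀ (m : ℕ) (G : Type u) [Group G] [Finite G], Nat.card G = m → m ∣ 2520 →
    (m < 2520 ∨ ¬ IsSimpleGroup G) → PN 5 G ∨ PN 7 G := by
  intro m
  induction m using Nat.strong_induction_on with | _ m ih => ?_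
  intro G _ _ hm hd hG
  haveI : Fact (Nat.Prime 5) := ⟨Nat.prime_five⟩
  haveI : Fact (Nat.Prime 7) := ⟨by norm_num⟩
  subst hm
  have hsq5 : ¬ 5 ^ 2 ∣ Nat.card G := fun h => absurd (h.trans hd) (by norm_num)
  have hsq7 : ¬ 7 ^ 2 ∣ Nat.card G := fun h => absurd (h.trans hd) (by norm_num)
  by_cases h60 : 60 ∣ Nat.card G
  swap
  · exact Or.inl (pn_five_of hd h60)
  by_cases h8 : 8 ∣ Nat.card G
  swap
  · exact Or.inr (pn_seven_of hd h8)
  by_cases h7 : 7 ∣ Nat.card G
  swap
  · exact Or.inr (pn_of_not_dvd h7)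
  haveI : Nontrivial G := Finite.one_lt_card_iff_nontrivial.1 (by
    have := Nat.le_of_dvd Nat.card_pos h60; omega)
  by_cases hs : IsSimpleGroup G
  · haveI := hs
    exfalso
    rcases hG with hlt | hns
    · have hcm : ¬ IsMulCommutative G := fun h => by
        letI : CommGroup G := { ‹Group G› with mul_comm := h.is_comm.comm }
        have hp := IsSimpleGroup.prime_card (α := G)
        have := (Nat.prime_dvd_prime_iff_eq (by norm_num : Nat.Prime 7) hp).1 h7
        have := Nat.le_of_dvd Nat.card_pos h60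
        omega
      have key : ∀ k ∈ simpleOrders, k ∣ 2520 → 60 ∣ k → 7 ∣ k → k = 2520 := by decide
      have := key _ (CfsgLib.ThirtySixForty.card_mem_of_lt hcm (by omega)) hd h60 h7
      omega
    · exact hns hs
  obtain ⟨N, hN, hN1, hN2⟩ : ∃ N : Subgroup G, N.Normal ∧ N ≠ ⊥ ∧ N ≠ ⊤ := by
    by_contra! h'
    exact hs ⟨fun N hN => or_iff_not_imp_left.2 (h' N hN)⟩
  haveI := hN
  have hab : Nat.card (G ⧸ N) * Nat.card N = Nat.card G := N.card_eq_card_quotient_mul_card_subgroup.symm
  have hNlt : Nat.card N < Nat.card G :=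
    lt_of_le_of_ne N.card_le_card_group fun e => hN2 (N.eq_top_of_card_eq e)
  have hQlt : Nat.card (G ⧸ N) < Nat.card G :=
    (lt_mul_of_one_lt_right Nat.card_pos (N.one_lt_card_iff_ne_bot.2 hN1)).trans_eq hab
  have hNd : Nat.card N ∣ 2520 := N.card_subgroup_dvd_card.trans hd
  have hQd : Nat.card (G ⧸ N) ∣ 2520 := N.card_quotient_dvd_card.trans hd
  have hlt : Nat.card G ≤ 2520 := Nat.le_of_dvd (by norm_num) hd
  have hsmall : ∀ a b : ℕ, b * a ∣ 2520 → 60 ∣ b → ¬ 8 ∣ a := fun a b h hb h8a => by
    have : 60 * 8 ∣ 2520 := (Nat.mul_dvd_mul hb h8a).trans h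
    norm_num at this
  by_cases h5N : 5 ∣ Nat.card N
  · by_cases hP : PN 5 N
    · exact Or.inl (pn_of_normal hsq5 h5N hP)
    have h60N : 60 ∣ Nat.card N := by_contra fun h => hP (pn_five_of hNd h)
    by_cases h7N : 7 ∣ Nat.card N
    · rcases ih _ hNlt N rfl hNd (Or.inl (by omega)) with h | h
      · exact absurd h hP
      · exact Or.inr (pn_of_normal hsq7 h7N h)
    refine Or.inr ?_
    by_cases h8N : 8 ∣ Nat.card N
    · refine pn_seven_of_normal hd h7 N ?_ hP
      have key : ∀ a ∈ Nat.divisors 2520, 60 ∣ a → 8 ∣ a → ¬ 7 ∣ a → a = 120 ∨ a = 360 := by decide +kernel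
      exact key _ (Nat.mem_divisors.2 ⟨hNd, by norm_num⟩) h60N h8N h7N
    · refine pn_of_quotient hsq7 h7N (free_seven hNd h8N) (pn_seven_of hQd ?_)
      exact hsmall _ _ (by rw [mul_comm, hab]; exact hd) h60N
  by_cases hP : PN 5 (G ⧸ N)
  · exact Or.inl (pn_of_quotient hsq5 h5N (free_five hNd) hP)
  have h60Q : 60 ∣ Nat.card (G ⧸ N) := by_contra fun h => hP (pn_five_of hQd h)
  have h8N : ¬ 8 ∣ Nat.card N := hsmall _ _ (hab ▸ hd) h60Q
  refine Or.inr ?_
  by_cases h7N : 7 ∣ Nat.card N
  · exact pn_of_normal hsq7 h7N (pn_seven_of hNd h8N)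
  rcases ih _ hQlt (G ⧸ N) rfl hQd (Or.inl (by omega)) with h | h
  · exact absurd h hP
  · exact pn_of_quotient hsq7 h7N (free_seven hNd h8N) h

variable {S : Type v} [Group S] [Finite S] [IsSimpleGroup S] {G : Type u} [Group G] [Finite G]

/-- A simple group of order 2520. -/
theorem case_twenty_five_twenty (hS : Nat.card S = 2520) (hc : Nat.card G = 2520)
    (hV : Cfsg.degreePrimes G = Cfsg.degreePrimes S) : Nonempty (G ≃* S) := by
  haveI : Fact (Nat.Prime 5) := ⟨Nat.prime_five⟩
  haveI : Fact (Nat.Prime 7) := ⟨by norm_num⟩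
  obtain ⟨e⟩ := Cfsg.Agent.S0984.result hS
  obtain ⟨h5, h7⟩ := five_seven_mem
  rw [← degreePrimes_congr e, ← hV] at h5 h7
  by_cases hs : IsSimpleGroup G
  · haveI := hs
    obtain ⟨f⟩ := Cfsg.Agent.S0984.result (G := G) hc
    exact ⟨f.trans e.symm⟩
  exfalso
  rcases pn_five_or_seven 2520 G hc dvd_rfl (Or.inr hs) with h | h
  · exact not_mem_degreePrimes_of_pn (by rw [hc]; norm_num) h h5
  · exact not_mem_degreePrimes_of_pn (by rw [hc]; norm_num) h h7

end CfsgLib.SmallDegreeGraph
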